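import Cfsg.Agent.H52.SpDefs

/-!
# Existence of `J(T)`-components (for S2948 / S2949): statements of the pieces

`StEx`: if `L` is in the family of the 2-group `T`, then `L` contains a `J(T)`-component.

Route, inside `X = ↥L` (`Q = O₂(X)`, `V = Ω₁(Z(Q))`, `C = C_X(V)`, `M = J(X)`, `J = J(T)`):
the elements of odd order of `M` commute modulo `Q` (GLP), commutators of `M` have cube in `C` and
sixth powers of `M` lie in `C` (GLT); so `J` acts on the abelian group `U / Q` of odd order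
(`U = Q ⟨odd elements of M⟩`) through an elementary abelian 2-group, nontrivially (NT).  A minimal
`J`-invariant `N` with `Q < N ≤ U` not centralized by `J` modulo `Q` has prime index over `Q` (MIN),
equal to 3 (P3).  `K := ⟨odd elements of N⟩` (K).  The four-group clause: `W_K ≠ 1` (WNE) and
the counting argument with a largest elementary abelian subgroup of `T` (LIN, W).
-/

set_option autoImplicit false
open Cfsg

namespace Cfsg.Agent.H81.Ex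

universe u

/-- `Q ⟨odd elements of M⟩`. -/
def oddHull {X : Type u} [Group X] (Q M : Subgroup X) : Subgroup X :=
  Q ⊔ Subgroup.closure {g : X | g ∈ M ∧ Odd (orderOf g)}

/-- GLB: in a group generated by independent normal copies of `SL(2,2) ≅ S₃`, commutators have
order dividing 3 and all elements have order dividing 6. -/
def StGLB : Prop := ∀ {X : Type u} [Group X] [Finite X] {ι : Type u} (E : ι → Subgroup X)
    (H : Subgroup X),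
  (∀ i, H ≤ Subgroup.normalizer ((E i : Subgroup X) : Set X)) →
  (∀ i, Nonempty (↥(E i) ≃* Matrix.SpecialLinearGroup (Fin 2) (ZMod 2))) →
  iSupIndep E → (⨆ i, E i) = H →
  ∀ x ∈ H, ∀ y ∈ H, (x * y * x⁻¹ * y⁻¹) ^ 3 = 1 ∧ x ^ 6 = 1

/-- GLT: consequence of S0617 (as GL): modulo `C_X(V)`, commutators of `J(X)` have order dividing
3 and elements of `J(X)` have order dividing 6. -/
def StGLT : Prop := ∀ {X : Type u} [Group X] [Finite X] (V : Subgroup X) [V.Normal],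
  IsElementaryAbelian 2 V → IsPSolvable 2 X →
  pCore 2 (X ⧸ Subgroup.centralizer (V : Set X)) = ⊥ →
  ∀ x ∈ thompsonSubgroup 2 X, ∀ y ∈ thompsonSubgroup 2 X,
    (x * y * x⁻¹ * y⁻¹) ^ 3 ∈ Subgroup.centralizer (V : Set X) ∧
      x ^ 6 ∈ Subgroup.centralizer (V : Set X)

/-- NT: a 2-subgroup `J ≤ M ⊴ X` not contained in `C ⊴ X`, where `O₂(X / C) = 1`, does not
centralize modulo `C` all elements of odd order of `M`. -/
def StNT : Prop := ∀ {X : Type u} [Group X] [Finite X] (C M J : Subgroup X) [C.Normal],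
  M.Normal → pCore 2 (X ⧸ C) = ⊥ → IsPGroup 2 ↥J → J ≤ M → ¬ J ≤ C →
  ∃ u ∈ M, Odd (orderOf u) ∧ ∃ j ∈ J, u * j * u⁻¹ * j⁻¹ ∉ C

/-- PREPU: `U = Q ⟨odd elements of M⟩` is normal, abelian modulo `Q`, of odd index over `Q`, and
its sixth powers lie in `C`. -/
def StPrepU : Prop := ∀ {X : Type u} [Group X] [Finite X] (Q C M : Subgroup X),
  Q.Normal → C.Normal → M.Normal → Q ≤ C →
  (∀ x ∈ M, ∀ y ∈ M, Odd (orderOf x) → Odd (orderOf y) → x * y * x⁻¹ * y⁻¹ ∈ Q) →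
  (∀ x ∈ M, ∀ y ∈ M, (x * y * x⁻¹ * y⁻¹) ^ 3 ∈ C ∧ x ^ 6 ∈ C) →
  (oddHull Q M).Normal ∧
    (∀ x ∈ oddHull Q M, ∀ y ∈ oddHull Q M, x * y * x⁻¹ * y⁻¹ ∈ Q) ∧
    Odd (Q.relIndex (oddHull Q M)) ∧ ∀ x ∈ oddHull Q M, x ^ 6 ∈ C

/-- PREPJ: `J` is elementary abelian modulo `Q`. -/
def StPrepJ : Prop := ∀ {X : Type u} [Group X] [Finite X] (Q C M J : Subgroup X),
  IsPGroup 2 ↥J → J ≤ M → J ⊓ C ≤ Q →
  (∀ x ∈ M, ∀ y ∈ M, (x * y * x⁻¹ * y⁻¹) ^ 3 ∈ C ∧ x ^ 6 ∈ C) →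
  (∀ j ∈ J, j * j ∈ Q) ∧ ∀ j ∈ J, ∀ k ∈ J, j * k * j⁻¹ * k⁻¹ ∈ Q

/-- MIN: a minimal `J`-invariant subgroup between `Q` and `U` not centralized by `J` modulo `Q`
has prime index over `Q`. -/
def StMin : Prop := ∀ {X : Type u} [Group X] [Finite X] (Q U J : Subgroup X),
  Q.Normal → Q ≤ U → U.Normal →
  (∀ x ∈ U, ∀ y ∈ U, x * y * x⁻¹ * y⁻¹ ∈ Q) → Odd (Q.relIndex U) →
  (∀ j ∈ J, j * j ∈ Q) → (∀ j ∈ J, ∀ k ∈ J, j * k * j⁻¹ * k⁻¹ ∈ Q) →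
  (∃ u ∈ U, ∃ j ∈ J, u * j * u⁻¹ * j⁻¹ ∉ Q) →
  ∃ N : Subgroup X, Q ≤ N ∧ N ≤ U ∧ J ≤ Subgroup.normalizer (N : Set X) ∧
    (Q.relIndex N).Prime ∧ ∃ x ∈ N, ∃ j ∈ J, x * j * x⁻¹ * j⁻¹ ∉ Q

/-- P3: the prime is 3, and `N ≰ C`. -/
def StP3 : Prop := ∀ {X : Type u} [Group X] [Finite X] (Q C U N J : Subgroup X),
  Q.Normal → Q ≤ C → Q ≤ N → N ≤ U → Odd (Q.relIndex U) → (Q.relIndex N).Prime →
  (∀ x ∈ U, x ^ 6 ∈ C) → (∀ c ∈ C, ∀ j ∈ J, c * j * c⁻¹ * j⁻¹ ∈ Q) →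
  (∃ x ∈ N, ∃ j ∈ J, x * j * x⁻¹ * j⁻¹ ∉ Q) →
  Q.relIndex N = 3 ∧ ¬ N ≤ C

/-- K: the subgroup generated by the elements of odd order of `N`. -/
def StK : Prop := ∀ {X : Type u} [Group X] [Finite X] (Q N J : Subgroup X),
  Q.Normal → IsPGroup 2 ↥Q → Q ≤ N → Q.relIndex N = 3 →
  J ≤ Subgroup.normalizer (N : Set X) →
  (∃ x ∈ N, ∃ j ∈ J, x * j * x⁻¹ * j⁻¹ ∉ Q) →
  ∃ K : Subgroup X, K ≤ N ∧ Subgroup.closure {g : X | g ∈ K ∧ Odd (orderOf g)} = K ∧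
    ⁅K, J⁆ = K ∧ pCoreOf 2 K ≤ Q ∧ (pCoreOf 2 K).relIndex K = 3 ∧
    Q ≤ Subgroup.normalizer (K : Set X) ∧ K ⊔ Q = N

/-- WNE: `W_K ≠ 1`. -/
def StWne : Prop := ∀ {X : Type u} [Group X] [Finite X] (V K : Subgroup X) [V.Normal],
  IsElementaryAbelian 2 V → V ≤ Subgroup.normalizer (K : Set X) →
  pCoreOf 2 K ≤ Subgroup.centralizer (V : Set X) →
  Subgroup.closure {g : X | g ∈ K ∧ Odd (orderOf g)} = K →
  ¬ K ≤ Subgroup.centralizer (V : Set X) → wOf K ≠ ⊥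

/-- GLUE: standard facts. -/
def StGlue : Prop := ∀ {X : Type u} [Group X] [Finite X] (T V : Subgroup X) [V.Normal],
  IsElementaryAbelian 2 V → IsPGroup 2 ↥T → Odd T.index →
  (pCore 2 X).Normal ∧ IsPGroup 2 ↥(pCore 2 X) ∧ pCore 2 X ≤ T ∧ V ≤ pCore 2 X ∧
    (thompsonSubgroup 2 X).Normal

/-- The existence statement inside `X = ↥L`. -/
def StExX : Prop := ∀ {X : Type u} [Group X] [Finite X] (T V J : Subgroup X) [V.Normal],
  IsElementaryAbelian 2 V → IsPSolvable 2 X → IsPGroup 2 ↥T → Odd T.index →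
  pCore 2 X ≤ Subgroup.centralizer (V : Set X) →
  Subgroup.centralizer (V : Set X) ≤ Subgroup.normalizer (T : Set X) →
  J ≤ T → J ≤ thompsonSubgroup 2 X → ¬ J ≤ pCore 2 X →
  ∃ K : Subgroup X, Subgroup.closure {g : X | g ∈ K ∧ Odd (orderOf g)} = K ∧ ⁅K, J⁆ = K ∧
    pCoreOf 2 K ≤ pCore 2 X ∧ (pCoreOf 2 K).relIndex K = 3 ∧ wOf K ≠ ⊥

/-- UP: from `↥L` to `G`. -/
def StUp : Prop := ∀ {G : Type u} [Group G] [Finite G] (L J : Subgroup G) (K' : Subgroup ↥L),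
  J ≤ L →
  Subgroup.closure {g : ↥L | g ∈ K' ∧ Odd (orderOf g)} = K' → ⁅K', J.subgroupOf L⁆ = K' →
  pCoreOf 2 K' ≤ pCore 2 ↥L → (pCoreOf 2 K').relIndex K' = 3 → wOf K' ≠ ⊥ →
  Subgroup.closure {g : G | g ∈ K'.map L.subtype ∧ Odd (orderOf g)} = K'.map L.subtype ∧
    ⁅K'.map L.subtype, J⁆ = K'.map L.subtype ∧
    pCoreOf 2 (K'.map L.subtype) ≤ pCoreOf 2 L ∧
    (pCoreOf 2 (K'.map L.subtype)).relIndex (K'.map L.subtype) = 3 ∧
    wOf (K'.map L.subtype) ≠ ⊥ ∧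
    J ≤ Subgroup.normalizer ((K'.map L.subtype : Subgroup G) : Set G)

/-- SYL4: the Sylow clause of the definition of a `J(T)`-component. -/
def StSyl4 : Prop := ∀ {G : Type u} [Group G] [Finite G] (T K : Subgroup G),
  IsPGroup 2 ↥T → pCoreOf 2 K ≤ T → (pCoreOf 2 K).relIndex K = 3 →
  thompsonSubgroupOf 2 T ≤ Subgroup.normalizer (K : Set G) →
  ∀ S : Subgroup G, IsSylowTwoIn S (K ⊔ thompsonSubgroupOf 2 T) → thompsonSubgroupOf 2 T ≤ S →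
    thompsonSubgroupOf 2 S = thompsonSubgroupOf 2 T

/-- LIN: the counting argument.  `Z` an elementary abelian 2-group, `ξ` an automorphism with
`ξ³ = 1`, `A` an elementary abelian 2-group acting on `Z`, `A₁` of index at most 2 in `A`
commuting with `ξ`, `a` inverting `ξ`, and the inequality `|B| |C_Z(B)| ≤ |A| |C_Z(A)|` for all
`B ≤ A`: then `[Z, ξ]` has order 1 or 4. -/
def StLin : Prop := ∀ {Z : Type u} [CommGroup Z] [Finite Z] {A : Type u} [Group A] [Finite A]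
    (ρ : A →* MulAut Z) (ξ : MulAut Z) (A₁ : Subgroup A) (a : A),
  (∀ z : Z, z * z = 1) → IsPGroup 2 A → (∀ b c : A, b * c = c * b) → a * a = 1 →
  (∀ b : A, b ∈ A₁ ∨ a⁻¹ * b ∈ A₁) →
  ξ * ξ * ξ = 1 → (∀ b ∈ A₁, ρ b * ξ = ξ * ρ b) → ρ a * ξ = ξ⁻¹ * ρ a →
  (∀ B : Subgroup A, Nat.card ↥B * Nat.card {z : Z // ∀ b ∈ B, ρ b z = z} ≤
      Nat.card A * Nat.card {z : Z // ∀ b : A, ρ b z = z}) →
  Nat.card {z : Z // ∃ y : Z, ξ y * y⁻¹ = z} = 1 ∨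
    Nat.card {z : Z // ∃ y : Z, ξ y * y⁻¹ = z} = 4

/-- W: the four-group clause. -/
def StW : Prop := ∀ {G : Type u} [Group G] [Finite G] (T K : Subgroup G),
  IsPGroup 2 ↥T → pCoreOf 2 K ≤ T → (pCoreOf 2 K).relIndex K = 3 →
  ⁅K, thompsonSubgroupOf 2 T⁆ = K → wOf K ≠ ⊥ →
  Nat.card ↥(wOf K) = 4 ∧ ∀ w ∈ wOf K, w * w = 1

/-- The existence statement. -/
def StEx : Prop := ∀ {G : Type u} [Group G] [Finite G],
  IsCharacteristicTwoType G →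
  (∀ N : Subgroup G, IsTwoLocal N → Group.IsSolvable ↥N) →
  (∀ S : Sylow 2 G, Subgroup.centralizer (omegaCenterOf (S : Subgroup G) : Set G) ≤
      Subgroup.normalizer ((S : Subgroup G) : Set G)) →
  ∀ (T : Subgroup G), IsPGroup 2 ↥T → T ≠ ⊥ → ∀ (L : Subgroup G), L ∈ jOvergroups T →
  ∃ K : Subgroup G, IsJComponent T K ∧ K ≤ L

end Cfsg.Agent.H81.Ex
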