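import Mathlib
import Cfsg.Prelude.Def_Blocks
import Cfsg.Agent.H81.DefZero

set_option autoImplicit false
set_option linter.style.haveILetI false
set_option linter.unusedSectionVars false

/-!
# helper81: global integrality of block idempotents, independence of the maximal ideal
-/

namespace Cfsg.Agent.H81

open Cfsg Cfsg.Agent.H20
open scoped ComplexConjugate

universe u

variable {G : Type u} [Group G]

/-- A nontrivial element of a Sylow `p`-subgroup is `p`-singular. -/
theorem dvd_orderOf_of_mem_sylow [Finite G] {p : ℕ} [Fact p.Prime] (P : Sylow p G)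
    (z : (P : Subgroup G)) (hz : z ≠ 1) : p ∣ orderOf (z : G) := by
  have hp : p.Prime := Fact.out
  obtain ⟨j, hj⟩ := P.isPGroup' z
  have h2 : orderOf (z : G) ∣ p ^ j :=
    orderOf_dvd_of_pow_eq_one (by exact_mod_cast congrArg Subtype.val hj)
  obtain ⟨i, hi, hoi⟩ := (Nat.dvd_prime_pow hp).mp h2
  rw [hoi]
  have hi0 : i ≠ 0 := by
    rintro rfl
    rw [pow_zero, orderOf_eq_one_iff] at hoi
    exact hz (Subtype.ext hoi)
  exact dvd_pow_self p hi0

/-- **Global form of Osima's theorem**: the coefficients of a block idempotent, multiplied by the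
`p'`-part of the group order, are algebraic integers. -/
theorem blockCoeff_global [Finite G] {p : ℕ} [Fact p.Prime] {M : Ideal AlgInt}
    (hM : IsPModular p M) (χ₀ : IrrCharacter G) (g : G) :
    IsIntegral ℤ (((Nat.card G / p ^ (Nat.card G).factorization p : ℕ) : ℂ) *
      blockCoeff (blockOf M (χ₀ : G → ℂ)) g) := by
  classical
  haveI : Fintype G := Fintype.ofFinite G
  letI := Cfsg.Agent.H4.fintypeIrr G
  have hp : p.Prime := Fact.out
  obtain ⟨B, hB⟩ : ∃ B : Set (IrrCharacter G), B = blockOf M (χ₀ : G → ℂ) := ⟨_, rfl⟩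
  by_cases hg : p ∣ orderOf g
  · have h1 := wbo_one hM χ₀ 1 g (by rw [orderOf_one]; exact hp.one_lt.ne' ∘ Nat.dvd_one.mp) hg
    unfold blockCoeff
    rw [h1, mul_zero, mul_zero]
    exact isIntegral_zero
  · obtain ⟨P⟩ := (inferInstance : Nonempty (Sylow p G))
    haveI : Fintype (P : Subgroup G) := Fintype.ofFinite _
    have hm : ∀ χ : IrrCharacter G, ∃ m : ℕ,
        ∑ u : (P : Subgroup G), (χ : G → ℂ) (u : G) =
          ((p ^ (Nat.card G).factorization p : ℕ) : ℂ) * m := by
      intro χ
      obtain ⟨m, hm⟩ := Cfsg.Agent.H80.sum_subgroup_character (P : Subgroup G) (χ : G → ℂ)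
        (Cfsg.Agent.H80.isCharacter_of_irr χ)
      rw [finsum_eq_sum_of_fintype, P.card_eq_multiplicity] at hm
      exact ⟨m, hm⟩
    choose m hm using hm
    have hω : IsIntegral ℤ (∑ χ : IrrCharacter G,
        if χ ∈ blockOf M (χ₀ : G → ℂ) then conj ((χ : G → ℂ) g) * (m χ : ℂ) else 0) := by
      apply IsIntegral.sum
      intro χ _
      split_ifs
      · rw [← irr_inv]
        exact (irr_isIntegral χ g⁻¹).mul (isIntegral_natCast _)
      · exact isIntegral_zero
    convert hω using 1
    -- the double sum over the Sylow subgroup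
    have hsum : ∑ u : (P : Subgroup G), ∑ χ : IrrCharacter G,
        (if χ ∈ blockOf M (χ₀ : G → ℂ) then conj ((χ : G → ℂ) g) * (χ : G → ℂ) (u : G) else 0) =
        ∑ χ : IrrCharacter G,
        (if χ ∈ blockOf M (χ₀ : G → ℂ) then conj ((χ : G → ℂ) g) * (χ : G → ℂ) 1 else 0) := by
      rw [Finset.sum_eq_single (1 : (P : Subgroup G))]
      · rfl
      · intro u _ hu
        have hu' := dvd_orderOf_of_mem_sylow P u hu
        have h1 := wbo_sum hM χ₀ g (u : G) (fun h => hg (h.mpr hu'))
        have h2 := congrArg conj h1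
        rw [map_sum, map_zero] at h2
        refine Eq.trans ?_ h2
        apply Finset.sum_congr rfl
        intro χ _
        split_ifs
        · rw [map_mul, Complex.conj_conj]
        · rw [map_zero]
      · intro h; exact absurd (Finset.mem_univ _) h
    have hsum2 : ∑ u : (P : Subgroup G), ∑ χ : IrrCharacter G,
        (if χ ∈ blockOf M (χ₀ : G → ℂ) then conj ((χ : G → ℂ) g) * (χ : G → ℂ) (u : G) else 0) =
        ((p ^ (Nat.card G).factorization p : ℕ) : ℂ) * ∑ χ : IrrCharacter G,
        (if χ ∈ blockOf M (χ₀ : G → ℂ) then conj ((χ : G → ℂ) g) * (m χ : ℂ) else 0) := by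
      rw [Finset.sum_comm, Finset.mul_sum]
      apply Finset.sum_congr rfl
      intro χ _
      split_ifs
      · rw [← Finset.mul_sum, hm χ]; ring
      · simp
    rw [hsum] at hsum2
    rw [blockCoeff_eq]
    have hcard : (Nat.card G : ℂ) = ((p ^ (Nat.card G).factorization p : ℕ) : ℂ) *
        ((Nat.card G / p ^ (Nat.card G).factorization p : ℕ) : ℂ) := by
      rw [← Nat.cast_mul, Nat.ordProj_mul_ordCompl_eq_self]
    have hpa : ((p ^ (Nat.card G).factorization p : ℕ) : ℂ) ≠ 0 := by
      exact_mod_cast (pow_pos hp.pos _).ne'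
    have hn' : ((Nat.card G / p ^ (Nat.card G).factorization p : ℕ) : ℂ) ≠ 0 := by
      have : Nat.card G / p ^ (Nat.card G).factorization p ≠ 0 :=
        (Nat.ordCompl_pos p (Nat.card_pos (α := G)).ne').ne'
      exact_mod_cast this
    have hsum3 : ∑ χ : IrrCharacter G,
        (if χ ∈ blockOf M (χ₀ : G → ℂ) then (χ : G → ℂ) 1 * conj ((χ : G → ℂ) g) else 0) =
        ((p ^ (Nat.card G).factorization p : ℕ) : ℂ) * ∑ χ : IrrCharacter G,
        (if χ ∈ blockOf M (χ₀ : G → ℂ) then conj ((χ : G → ℂ) g) * (m χ : ℂ) else 0) := by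
      rw [← hsum2]
      apply Finset.sum_congr rfl
      intro χ _
      split_ifs
      · ring
      · rfl
    rw [hsum3, hcard]
    field_simp

/-- The coefficients of a block idempotent are local integers at every maximal ideal over `p`. -/
theorem blockCoeff_memLocalRing_any [Finite G] {p : ℕ} [Fact p.Prime] {M M' : Ideal AlgInt}
    (hM : IsPModular p M) (hM' : IsPModular p M') (χ₀ : IrrCharacter G) (g : G) :
    MemLocalRing M' (blockCoeff (blockOf M (χ₀ : G → ℂ)) g) := by
  have hp : p.Prime := Fact.out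
  have hM'p := isPrime_of_isPModular hM'
  have h1 := blockCoeff_global hM χ₀ g
  have hnd : ¬ p ∣ Nat.card G / p ^ (Nat.card G).factorization p :=
    Nat.not_dvd_ordCompl hp (Nat.card_pos (α := G)).ne'
  have hn' : ((Nat.card G / p ^ (Nat.card G).factorization p : ℕ) : ℂ) ≠ 0 := by
    have : Nat.card G / p ^ (Nat.card G).factorization p ≠ 0 :=
      (Nat.ordCompl_pos p (Nat.card_pos (α := G)).ne').ne'
    exact_mod_cast this
  have h2 := (localRing M' hM'p).mul_mem (memLocalRing_inv_natCast hM' hnd)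
    (memLocalRing_algInt hM'p ⟨_, h1⟩)
  have e : ((Nat.card G / p ^ (Nat.card G).factorization p : ℕ) : ℂ)⁻¹ *
      (((Nat.card G / p ^ (Nat.card G).factorization p : ℕ) : ℂ) *
        blockCoeff (blockOf M (χ₀ : G → ℂ)) g) = blockCoeff (blockOf M (χ₀ : G → ℂ)) g := by
    field_simp
  rw [← e]
  exact h2

/-- Blocks do not depend on the maximal ideal over `p`. -/
theorem sameBlock_any [Finite G] {p : ℕ} [Fact p.Prime] {M M' : Ideal AlgInt}
    (hM : IsPModular p M) (hM' : IsPModular p M') (χ ψ : IrrCharacter G)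
    (h : SameBlock M (χ : G → ℂ) (ψ : G → ℂ)) : SameBlock M' (χ : G → ℂ) (ψ : G → ℂ) := by
  classical
  haveI : Fintype G := Fintype.ofFinite G
  have hMp := isPrime_of_isPModular hM
  have he : blockElt (blockOf M' (χ : G → ℂ)) ∈ cfSubring G (localRing M hMp) :=
    ⟨isCF_blockElt _, fun g => by
      rw [coeff_blockElt]; exact blockCoeff_memLocalRing_any hM' hM χ g⟩
  have h1 := omega_sub_omega_memLocalIdeal hMp (χ : G → ℂ) (ψ : G → ℂ)
    (Cfsg.Agent.H4.irr_isClassFunction χ) (Cfsg.Agent.H4.irr_isClassFunction ψ) h he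
  rw [omega_blockElt, omega_blockElt, if_pos (mem_blockOf_self hM' χ)] at h1
  by_contra hψ
  rw [if_neg (fun hmem : ψ ∈ blockOf M' (χ : G → ℂ) => hψ hmem), sub_zero] at h1
  exact not_memLocalIdeal_one hMp h1

theorem blockOf_any [Finite G] {p : ℕ} [Fact p.Prime] {M M' : Ideal AlgInt}
    (hM : IsPModular p M) (hM' : IsPModular p M') (χ : IrrCharacter G) :
    blockOf M (χ : G → ℂ) = blockOf M' (χ : G → ℂ) := by
  ext ψ
  exact ⟨fun h => sameBlock_any hM hM' χ ψ h, fun h => sameBlock_any hM' hM χ ψ h⟩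

end Cfsg.Agent.H81
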