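import Mathlib
import Cfsg.Prelude.Def_Blocks
import Cfsg.Agent.H81.Global
import Cfsg.Agent.H20.BlockInd
import Cfsg.Agent.S0932
import Cfsg.Agent.H4.Chars

set_option autoImplicit false
set_option linter.style.haveILetI false
set_option linter.unusedSectionVars false

/-!
# helper81: induced blocks and multiplicities in induced characters
-/

namespace Cfsg.Agent.H81

open Cfsg Cfsg.Agent.H20
open scoped ComplexConjugate

universe u

variable {G : Type u} [Group G]

/-- If the induced central character of `ζ` is congruent to the central character of the block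
`B`, then the `B`-part of the induced character `ζ^G` has degree `ζ^G(1) (1 + j)` with `j` in the
local ideal. -/
theorem sum_mult_degree_induced [Fintype G] {p : ℕ} {M : Ideal AlgInt} (hM : IsPModular p M)
    (H : Subgroup G) (ζ : IrrCharacter H) (χ₀ : IrrCharacter G)
    [Fintype (IrrCharacter G)] [DecidablePred (· ∈ blockOf M (χ₀ : G → ℂ))]
    (hcong : ∀ g : G, MemLocalIdeal M
      (inducedCentralChar H (ζ : H → ℂ) g - centralChar (χ₀ : G → ℂ) g)) :
    ∃ j : ℂ, MemLocalIdeal M j ∧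
      ∑ χ : IrrCharacter G, (if χ ∈ blockOf M (χ₀ : G → ℂ) then
        classInner (indFun H (ζ : H → ℂ)) (χ : G → ℂ) * (χ : G → ℂ) 1 else 0) =
      indFun H (ζ : H → ℂ) 1 * (1 + j) := by
  classical
  have hMp := isPrime_of_isPModular hM
  obtain ⟨θ, hθ⟩ : ∃ θ : G → ℂ, θ = indFun H (ζ : H → ℂ) := ⟨_, rfl⟩
  rw [← hθ]
  have hθcf : IsClassFunction G θ := hθ ▸ Cfsg.Agent.H4.indFun_isClassFunction H _
  have hθ1 : θ 1 ≠ 0 := by
    rw [hθ, indFun_one]
    have hH : (Nat.card H : ℂ) ≠ 0 := by exact_mod_cast (Nat.card_pos (α := H)).ne'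
    have hG : (Nat.card G : ℂ) ≠ 0 := by exact_mod_cast (Nat.card_pos (α := G)).ne'
    exact mul_ne_zero (inv_ne_zero hH) (mul_ne_zero hG (irr_one_ne_zero ζ))
  have hz := blockElt_mem hMp χ₀
  have hblock : SameBlock M θ (χ₀ : G → ℂ) := by
    intro g
    rw [hθ, ← Cfsg.Agent.S0932.inducedCentralChar_eq]
    exact hcong g
  have h1 := omega_sub_omega_memLocalIdeal hMp θ (χ₀ : G → ℂ) hθcf
    (Cfsg.Agent.H4.irr_isClassFunction χ₀) hblock hz
  rw [omega_blockElt, if_pos (mem_blockOf_self hM χ₀)] at h1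
  refine ⟨_, h1, ?_⟩
  have h2 := sum_coeff_mul_classFunction hθcf (blockElt (blockOf M (χ₀ : G → ℂ)))
  have h3 : θ 1 * (1 + (omega θ (blockElt (blockOf M (χ₀ : G → ℂ))) - 1)) =
      ∑ g : G, (blockElt (blockOf M (χ₀ : G → ℂ))).coeff g * θ g := by
    unfold omega
    field_simp
    ring
  rw [h3, h2]
  refine Finset.sum_congr (by ext; simp) (fun χ _ => ?_)
  rw [omega_blockElt]
  split_ifs <;> simp

/-- If `b^G = B` with equal defects, every height-zero character of `b` has a height-zero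
constituent of multiplicity prime to `p` in its induced character. -/
theorem exists_height_zero_constituent [Fintype G] {p : ℕ} [Fact p.Prime] {M : Ideal AlgInt}
    (hM : IsPModular p M) (H : Subgroup G) (b : Set (IrrCharacter H))
    (χ₀ : IrrCharacter G)
    (hcong : ∀ ξ ∈ b, ∀ g : G, MemLocalIdeal M
      (inducedCentralChar H (ξ : H → ℂ) g - centralChar (χ₀ : G → ℂ) g))
    (hdef : blockDefect p b = blockDefect p (blockOf M (χ₀ : G → ℂ)))
    (ζ : IrrCharacter H) (hζ : ζ ∈ b) (hζ0 : blockHeight p b (ζ : H → ℂ) = 0) :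
    ∃ χ ∈ blockOf M (χ₀ : G → ℂ), blockHeight p (blockOf M (χ₀ : G → ℂ)) (χ : G → ℂ) = 0 ∧
      ∃ a : ℕ, classInner (indFun H (ζ : H → ℂ)) (χ : G → ℂ) = (a : ℂ) ∧ ¬ p ∣ a := by
  classical
  letI := Cfsg.Agent.H4.fintypeIrr G
  have hp : p.Prime := Fact.out
  have hMp := isPrime_of_isPModular hM
  obtain ⟨B, hB⟩ : ∃ B : Set (IrrCharacter G), B = blockOf M (χ₀ : G → ℂ) := ⟨_, rfl⟩
  obtain ⟨j, hj, hsum⟩ := sum_mult_degree_induced hM H ζ χ₀ (hcong ζ hζ)
  -- multiplicities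
  have hmult : ∀ χ : IrrCharacter G, ∃ a : ℕ,
      classInner (indFun H (ζ : H → ℂ)) (χ : G → ℂ) = (a : ℂ) := fun χ =>
    Cfsg.Agent.H4.classInner_isCharacter_nat
      (Cfsg.Agent.H4.isCharacter_indFun H _ (Cfsg.Agent.H80.isCharacter_of_irr ζ))
      (Cfsg.Agent.H80.isCharacter_of_irr χ)
  choose mult hmult using hmult
  -- the exponents
  obtain ⟨mB, hmB⟩ : ∃ mB : ℕ, mB = sInf ((fun χ : IrrCharacter G =>
      (charDegree (χ : G → ℂ)).factorization p) '' blockOf M (χ₀ : G → ℂ)) := ⟨_, rfl⟩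
  obtain ⟨mb, hmb⟩ : ∃ mb : ℕ, mb = sInf ((fun ξ : IrrCharacter H =>
      (charDegree (ξ : H → ℂ)).factorization p) '' b) := ⟨_, rfl⟩
  have hmB_le : ∀ χ ∈ blockOf M (χ₀ : G → ℂ), mB ≤ (charDegree (χ : G → ℂ)).factorization p :=
    fun χ hχ => hmB ▸ Nat.sInf_le ⟨χ, hχ, rfl⟩
  have hmb_le : mb ≤ (charDegree (ζ : H → ℂ)).factorization p :=
    hmb ▸ Nat.sInf_le ⟨ζ, hζ, rfl⟩
  have hζdeg : (charDegree (ζ : H → ℂ)).factorization p = mb := by
    unfold blockHeight at hζ0
    rw [← hmb] at hζ0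
    omega
  have hdH := irr_charDegree_dvd ζ
  have hdG := irr_charDegree_dvd χ₀
  have hζpos := (irr_charDegree ζ).2
  have hχ₀pos := (irr_charDegree χ₀).2
  have hGpos : Nat.card G ≠ 0 := (Nat.card_pos (α := G)).ne'
  have hHpos : Nat.card H ≠ 0 := (Nat.card_pos (α := H)).ne'
  have h1 : (charDegree (ζ : H → ℂ)).factorization p ≤ (Nat.card H).factorization p :=
    (Nat.factorization_le_iff_dvd hζpos.ne' hHpos).mpr hdH p
  have h2 : (charDegree (χ₀ : G → ℂ)).factorization p ≤ (Nat.card G).factorization p :=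
    (Nat.factorization_le_iff_dvd hχ₀pos.ne' hGpos).mpr hdG p
  have h3 := hmB_le χ₀ (mem_blockOf_self hM χ₀)
  have hidx : H.index ≠ 0 := Subgroup.index_ne_zero_of_finite
  have hcardmul : Nat.card H * H.index = Nat.card G := Subgroup.card_mul_index H
  have h4 : (Nat.card G).factorization p =
      (Nat.card H).factorization p + H.index.factorization p := by
    rw [← hcardmul, Nat.factorization_mul hHpos hidx]; rfl
  unfold blockDefect at hdef
  rw [← hmb, ← hmB] at hdef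
  -- the degree of the induced character
  obtain ⟨Dn, hDn⟩ : ∃ Dn : ℕ, Dn = H.index * charDegree (ζ : H → ℂ) := ⟨_, rfl⟩
  have hDn0 : Dn ≠ 0 := by rw [hDn]; exact mul_ne_zero hidx hζpos.ne'
  have hDnfact : Dn.factorization p = mB := by
    rw [hDn, Nat.factorization_mul hidx hζpos.ne']
    simp only [Finsupp.coe_add, Pi.add_apply]
    omega
  have hind1 : indFun H (ζ : H → ℂ) 1 = (Dn : ℂ) := by
    rw [indFun_one, (irr_charDegree ζ).1, hDn]
    have hH : (Nat.card H : ℂ) ≠ 0 := by exact_mod_cast hHpos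
    have : (Nat.card G : ℂ) = (Nat.card H : ℂ) * (H.index : ℂ) := by
      rw [← Nat.cast_mul, hcardmul]
    rw [this]
    push_cast
    field_simp
  obtain ⟨D', hD'⟩ : ∃ D' : ℕ, D' = Dn / p ^ mB := ⟨_, rfl⟩
  have hDn' : Dn = p ^ mB * D' := by
    rw [hD', ← hDnfact]; exact (Nat.ordProj_mul_ordCompl_eq_self Dn p).symm
  have hD'nd : ¬ p ∣ D' := by
    rw [hD', ← hDnfact]; exact Nat.not_dvd_ordCompl hp hDn0
  -- the reduced degrees
  obtain ⟨d', hd'⟩ : ∃ d' : IrrCharacter G → ℕ,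
      d' = fun χ : IrrCharacter G => charDegree (χ : G → ℂ) / p ^ mB := ⟨_, rfl⟩
  have hdeg : ∀ χ ∈ blockOf M (χ₀ : G → ℂ), charDegree (χ : G → ℂ) = p ^ mB * d' χ := by
    intro χ hχ
    rw [hd']
    have : p ^ mB ∣ charDegree (χ : G → ℂ) :=
      (pow_dvd_pow p (hmB_le χ hχ)).trans (Nat.ordProj_dvd _ p)
    exact (Nat.mul_div_cancel' this).symm
  -- the key equation
  obtain ⟨N, hN⟩ : ∃ N : ℕ, N = ∑ χ : IrrCharacter G,
      if χ ∈ blockOf M (χ₀ : G → ℂ) then mult χ * d' χ else 0 := ⟨_, rfl⟩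
  have hpm : ((p ^ mB : ℕ) : ℂ) ≠ 0 := by exact_mod_cast (pow_pos hp.pos mB).ne'
  have hkey : (N : ℂ) = (D' : ℂ) * (1 + j) := by
    have h5 : ((p ^ mB : ℕ) : ℂ) * (N : ℂ) = ((p ^ mB : ℕ) : ℂ) * ((D' : ℂ) * (1 + j)) := by
      rw [← mul_assoc, ← Nat.cast_mul (p ^ mB) D', ← hDn', ← hind1, ← hsum, hN]
      push_cast
      rw [Finset.mul_sum]
      apply Finset.sum_congr rfl
      intro χ _
      split_ifs with hχ
      · rw [hmult χ, (irr_charDegree χ).1, hdeg χ hχ]
        push_cast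
        ring
      · rw [mul_zero]
    exact mul_left_cancel₀ hpm h5
  have hNnd : ¬ p ∣ N := by
    intro hdvd
    have h6 : MemLocalIdeal M (N : ℂ) := (memLocalIdeal_natCast_iff hM N).mpr hdvd
    rw [hkey] at h6
    have h7 : ¬ MemLocalIdeal M (1 + j) := by
      intro h
      have := memLocalIdeal_sub hMp h hj
      rw [add_sub_cancel_right] at this
      exact not_memLocalIdeal_one hMp this
    exact not_memLocalIdeal_mul hMp (memLocalRing_natCast hMp _)
      (memLocalRing_add hMp (memLocalRing_one hMp) (MemLocalIdeal.memLocalRing hj))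
      (fun h => hD'nd ((memLocalIdeal_natCast_iff hM _).mp h)) h7 h6
  have hex : ∃ χ : IrrCharacter G, χ ∈ blockOf M (χ₀ : G → ℂ) ∧ ¬ p ∣ mult χ * d' χ := by
    by_contra hno
    push Not at hno
    apply hNnd
    rw [hN]
    apply Finset.dvd_sum
    intro χ _
    split_ifs with hχ
    · exact hno χ hχ
    · exact dvd_zero p
  obtain ⟨χ, hχ, hnd⟩ := hex
  refine ⟨χ, hχ, ?_, mult χ, hmult χ, fun h => hnd (Dvd.dvd.mul_right h _)⟩
  unfold blockHeight
  rw [← hmB]
  have h8 : ¬ p ∣ d' χ := fun h => hnd (Dvd.dvd.mul_left h _)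
  have hχpos := (irr_charDegree χ).2
  by_contra hne
  have h9 : mB + 1 ≤ (charDegree (χ : G → ℂ)).factorization p := by omega
  have h10 : p ^ (mB + 1) ∣ charDegree (χ : G → ℂ) :=
    (pow_dvd_pow p h9).trans (Nat.ordProj_dvd _ p)
  rw [hdeg χ hχ, pow_succ] at h10
  exact h8 ((Nat.mul_dvd_mul_iff_left (pow_pos hp.pos mB)).mp h10)

end Cfsg.Agent.H81
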