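import Mathlib
import Cfsg.Prelude.Def_Blocks
import Cfsg.Prelude.Def_BlockRank
import Cfsg.Agent.S4425
import Cfsg.Agent.H32.Virtual
import Cfsg.Agent.H81.Proj
import Cfsg.Agent.H80.Block

set_option autoImplicit false
set_option linter.style.haveILetI false
set_option linter.unusedSectionVars false

/-!
# helper81: the `p`-regular part of a block character, scaled by `p ^ d`, stays in the block span
-/

namespace Cfsg.Agent.H81

open Cfsg Cfsg.Agent.H20

variable {G : Type*} [Group G] [Fintype G] {p : ℕ} [Fact p.Prime] {M : Ideal AlgInt}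

/-- For an irreducible character `ψ` and `d ≥ a - ν_p(ψ 1)`, the function `p ^ d • ψ̃` is an
integer combination of the irreducible characters in the block of `ψ`. -/
theorem exists_int_coeff_pReg (hM : IsPModular p M) (ψ : IrrCharacter G) (d : ℕ)
    (hd : (Nat.card G).factorization p - (charDegree (ψ : G → ℂ)).factorization p ≤ d) :
    ∃ m : IrrCharacter G → ℤ, (∀ ξ, ξ ∉ blockOf M (ψ : G → ℂ) → m ξ = 0) ∧
      ∀ g : G, (p ^ d : ℂ) * pRegularPart p (ψ : G → ℂ) g =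
        ∑ᶠ ξ : IrrCharacter G, (m ξ : ℂ) * (ξ : G → ℂ) g := by
  classical
  have hgen := (Cfsg.Agent.S4425.result p ψ).1
  obtain ⟨m₀, hm₀⟩ := Cfsg.Agent.H32.genChar_coeff hgen
  obtain ⟨e, he⟩ : ∃ e : ℕ, e =
    (Nat.card G).factorization p - (charDegree (ψ : G → ℂ)).factorization p := ⟨_, rfl⟩
  rw [← he] at hm₀ hd
  have h2 : (fun x : G => if p ∣ orderOf x then (0 : ℂ)
      else ((p ^ e : ℕ) : ℂ) * (ψ : G → ℂ) x) =
      ((p ^ e : ℕ) : ℂ) • pRegularPart p (ψ : G → ℂ) := by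
    funext x
    rw [Pi.smul_apply, pRegularPart_apply, smul_eq_mul]
    split_ifs
    · rw [mul_zero]
    · rfl
  refine ⟨fun ξ => (p : ℤ) ^ (d - e) * m₀ ξ, ?_, ?_⟩
  · intro ξ hξ
    have h1 := Cfsg.Agent.H32.genChar_coeff_eq m₀ ξ
    rw [← hm₀, h2, Cfsg.Agent.H4.classInner_smul_left, wbo_two hM ψ ξ hξ, mul_zero] at h1
    have h3 : m₀ ξ = 0 := by exact_mod_cast h1.symm
    simp only [h3, mul_zero]
  · intro g
    have h3 := congrFun (h2.symm.trans hm₀) g
    letI := Cfsg.Agent.H4.fintypeIrr G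
    rw [Cfsg.Agent.H4.finsum_irr_eq_sum, Finset.sum_apply] at h3
    rw [Cfsg.Agent.H4.finsum_irr_eq_sum]
    have h4 : (p ^ d : ℂ) = (p : ℂ) ^ (d - e) * ((p ^ e : ℕ) : ℂ) := by
      push_cast
      rw [← pow_add, Nat.sub_add_cancel hd]
    rw [h4, mul_assoc]
    rw [Pi.smul_apply, smul_eq_mul] at h3
    rw [h3, Finset.mul_sum]
    apply Finset.sum_congr rfl
    intro ξ _
    rw [Pi.smul_apply, smul_eq_mul]
    push_cast
    ring

/-- For `ψ` in a block `B`, `a - ν_p(ψ 1)` is at most the defect of `B`. -/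
theorem sub_factorization_le_blockDefect (B : Set (IrrCharacter G)) (ψ : IrrCharacter G)
    (hψ : ψ ∈ B) :
    (Nat.card G).factorization p - (charDegree (ψ : G → ℂ)).factorization p ≤
      blockDefect p B := by
  unfold blockDefect
  apply Nat.sub_le_sub_left
  exact Nat.sInf_le ⟨ψ, hψ, rfl⟩

/-- If `χ` is an integer combination of the characters of the block `B` then so is
`p ^ d • χ̃`, where `d` is the defect of `B`. -/
theorem pReg_span (hM : IsPModular p M) (B : Set (IrrCharacter G)) (hB : IsPBlock M B)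
    (χ : G → ℂ) (n : IrrCharacter G → ℤ)
    (hχ : ∀ g : G, χ g = ∑ᶠ ψ ∈ B, (n ψ : ℂ) * (ψ : G → ℂ) g) :
    ∃ N : IrrCharacter G → ℤ, ∀ g : G,
      (p ^ blockDefect p B : ℂ) * pRegularPart p χ g =
        ∑ᶠ ψ ∈ B, (N ψ : ℂ) * (ψ : G → ℂ) g := by
  classical
  have hMp := isPrime_of_isPModular hM
  letI := Cfsg.Agent.H4.fintypeIrr G
  have key : ∀ ψ : IrrCharacter G, ∃ m : IrrCharacter G → ℤ, ψ ∈ B →
      ((∀ ξ, ξ ∉ B → m ξ = 0) ∧ ∀ g : G, (p ^ blockDefect p B : ℂ) *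
        pRegularPart p (ψ : G → ℂ) g = ∑ ξ : IrrCharacter G, (m ξ : ℂ) * (ξ : G → ℂ) g) := by
    intro ψ
    by_cases hψ : ψ ∈ B
    · obtain ⟨m, hm1, hm2⟩ := exists_int_coeff_pReg hM ψ (blockDefect p B)
        (sub_factorization_le_blockDefect B ψ hψ)
      refine ⟨m, fun _ => ⟨?_, ?_⟩⟩
      · intro ξ hξ
        apply hm1
        obtain ⟨χ₀, rfl⟩ := hB
        rw [Cfsg.Agent.H80.blockOf_eq_of_mem hMp hψ]
        exact hξ
      · intro g
        rw [hm2 g, Cfsg.Agent.H4.finsum_irr_eq_sum]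
    · exact ⟨fun _ => 0, fun h => absurd h hψ⟩
  choose m hm using key
  refine ⟨fun ξ => ∑ ψ : IrrCharacter G, if ψ ∈ B then n ψ * m ψ ξ else 0, ?_⟩
  intro g
  have h1 : pRegularPart p χ g = ∑ ψ : IrrCharacter G,
      if ψ ∈ B then (n ψ : ℂ) * pRegularPart p (ψ : G → ℂ) g else 0 := by
    by_cases hg : p ∣ orderOf g
    · rw [pRegularPart_of_dvd p χ hg]
      symm
      apply Finset.sum_eq_zero
      intro ψ _
      rw [pRegularPart_of_dvd p _ hg, mul_zero, ite_self]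
    · rw [pRegularPart_of_not_dvd p χ hg, hχ g, Cfsg.Agent.H20.finsum_mem_irr]
      apply Finset.sum_congr rfl
      intro ψ _
      rw [pRegularPart_of_not_dvd p _ hg]
  rw [h1, Finset.mul_sum, Cfsg.Agent.H20.finsum_mem_irr]
  have h2 : ∀ ψ : IrrCharacter G, (p ^ blockDefect p B : ℂ) *
      (if ψ ∈ B then (n ψ : ℂ) * pRegularPart p (ψ : G → ℂ) g else 0) =
      ∑ ξ : IrrCharacter G, if ψ ∈ B then (n ψ : ℂ) * ((m ψ ξ : ℂ) * (ξ : G → ℂ) g) else 0 := by
    intro ψ
    by_cases hψ : ψ ∈ B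
    · simp only [if_pos hψ]
      rw [mul_left_comm, (hm ψ hψ).2 g, Finset.mul_sum]
    · simp only [if_neg hψ, mul_zero, Finset.sum_const_zero]
  rw [Finset.sum_congr rfl (fun ψ _ => h2 ψ), Finset.sum_comm]
  apply Finset.sum_congr rfl
  intro ξ _
  by_cases hξ : ξ ∈ B
  · rw [if_pos hξ]
    push_cast
    rw [Finset.sum_mul]
    apply Finset.sum_congr rfl
    intro ψ _
    split_ifs
    · ring
    · simp
  · rw [if_neg hξ]
    apply Finset.sum_eq_zero
    intro ψ _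
    split_ifs with hψ
    · rw [(hm ψ hψ).1 ξ hξ]
      simp
    · rfl

end Cfsg.Agent.H81
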