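import Mathlib
import Cfsg.Prelude.Def_Blocks
import Cfsg.Prelude.Def_BlockRank
import Cfsg.Agent.H81.PRegSpan
import Cfsg.Agent.H81.WBO
import Cfsg.Agent.H81.DefZero

set_option autoImplicit false
set_option linter.style.haveILetI false
set_option linter.unusedSectionVars false

/-!
# helper81: blocks of `p`-regular rank one

For a block `B` with `blockRank p B = 1` all `χ̃` (`χ ∈ B`) are proportional to one function
`φ`, with natural multiplicities `d χ`, and `∑ d χ ^ 2 = p ^ d` where `d` is the defect.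
-/

namespace Cfsg.Agent.H81

open Cfsg Cfsg.Agent.H20
open ComplexConjugate

variable {G : Type*} [Group G] [Fintype G] {p : ℕ} [Fact p.Prime] {M : Ideal AlgInt}

/-- In a set of rank one, the `p`-regular parts are proportional, with ratio the ratio of the
degrees. -/
theorem rank_one_proportional (B : Set (IrrCharacter G)) (hl : blockRank p B = 1)
    (χ₀ χ : IrrCharacter G) (h₀ : χ₀ ∈ B) (hχ : χ ∈ B) (x : G) :
    (charDegree (χ₀ : G → ℂ) : ℂ) * pRegularPart p (χ : G → ℂ) x =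
      (charDegree (χ : G → ℂ) : ℂ) * pRegularPart p (χ₀ : G → ℂ) x := by
  classical
  have hp : p.Prime := Fact.out
  have h1 : ¬ p ∣ orderOf (1 : G) := by
    rw [orderOf_one]; exact hp.one_lt.ne' ∘ Nat.dvd_one.mp
  unfold blockRank at hl
  have hm₀ : pRegularPart p (χ₀ : G → ℂ) ∈ Submodule.span ℂ
      ((fun χ : IrrCharacter G => pRegularPart p (χ : G → ℂ)) '' B) :=
    Submodule.subset_span ⟨χ₀, h₀, rfl⟩
  have hm : pRegularPart p (χ : G → ℂ) ∈ Submodule.span ℂ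
      ((fun χ : IrrCharacter G => pRegularPart p (χ : G → ℂ)) '' B) :=
    Submodule.subset_span ⟨χ, hχ, rfl⟩
  have hne : (⟨_, hm₀⟩ : Submodule.span ℂ
      ((fun χ : IrrCharacter G => pRegularPart p (χ : G → ℂ)) '' B)) ≠ 0 := by
    intro h
    have h2 : pRegularPart p (χ₀ : G → ℂ) 1 = 0 := by
      have h3 := congrArg Subtype.val h
      exact congrFun h3 1
    rw [pRegularPart_of_not_dvd p _ h1, (irr_charDegree χ₀).1] at h2
    exact (irr_charDegree χ₀).2.ne' (by exact_mod_cast h2)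
  obtain ⟨c, hc⟩ := (finrank_eq_one_iff_of_nonzero' _ hne).1 hl ⟨_, hm⟩
  have hc' : ∀ y : G, c * pRegularPart p (χ₀ : G → ℂ) y = pRegularPart p (χ : G → ℂ) y := by
    intro y
    have h3 := congrArg Subtype.val hc
    exact congrFun h3 y
  have h3 := hc' 1
  rw [pRegularPart_of_not_dvd p _ h1, pRegularPart_of_not_dvd p _ h1, (irr_charDegree χ₀).1,
    (irr_charDegree χ).1] at h3
  rw [← hc' x, ← h3]
  ring

/-- A natural combination of irreducible characters vanishing on the `p`-singular elements has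
degree divisible by the full power of `p` dividing the group order. -/
theorem pow_dvd_of_vanish_sum (s : Finset (IrrCharacter G)) (d : IrrCharacter G → ℕ)
    (hvan : ∀ y : G, p ∣ orderOf y → ∑ χ ∈ s, (d χ : ℂ) * (χ : G → ℂ) y = 0) :
    p ^ (Nat.card G).factorization p ∣ ∑ χ ∈ s, d χ * charDegree (χ : G → ℂ) := by
  classical
  have hp : p.Prime := Fact.out
  obtain ⟨P⟩ := (inferInstance : Nonempty (Sylow p G))
  haveI : Fintype (P : Subgroup G) := Fintype.ofFinite _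
  have key : ∀ χ : IrrCharacter G, ∃ m : ℕ,
      ∑ x : (P : Subgroup G), (χ : G → ℂ) (x : G) = (Nat.card (P : Subgroup G) : ℂ) * m := by
    intro χ
    obtain ⟨m, hm⟩ := Cfsg.Agent.H80.sum_subgroup_character (P : Subgroup G) (χ : G → ℂ)
      (Cfsg.Agent.H80.isCharacter_of_irr χ)
    rw [finsum_eq_sum_of_fintype] at hm
    exact ⟨m, hm⟩
  choose m hm using key
  have h1 : ∑ x : (P : Subgroup G), ∑ χ ∈ s, (d χ : ℂ) * (χ : G → ℂ) (x : G) =
      ∑ χ ∈ s, (d χ : ℂ) * (χ : G → ℂ) 1 := by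
    rw [Finset.sum_eq_single (1 : (P : Subgroup G))]
    · rfl
    · intro z _ hz
      apply hvan
      obtain ⟨j, hj⟩ := P.isPGroup' z
      have h2 : orderOf (z : G) ∣ p ^ j :=
        orderOf_dvd_of_pow_eq_one (by exact_mod_cast congrArg Subtype.val hj)
      obtain ⟨i, hi, hoi⟩ := (Nat.dvd_prime_pow hp).mp h2
      rw [hoi]
      have hi0 : i ≠ 0 := by
        rintro rfl
        rw [pow_zero, orderOf_eq_one_iff] at hoi
        exact hz (Subtype.ext hoi)
      exact dvd_pow_self p hi0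
    · intro h; exact absurd (Finset.mem_univ _) h
  rw [Finset.sum_comm] at h1
  have h2 : ∑ χ ∈ s, ∑ x : (P : Subgroup G), (d χ : ℂ) * (χ : G → ℂ) (x : G) =
      ((p ^ (Nat.card G).factorization p * ∑ χ ∈ s, d χ * m χ : ℕ) : ℂ) := by
    push_cast
    rw [Finset.mul_sum]
    apply Finset.sum_congr rfl
    intro χ _
    rw [← Finset.mul_sum, hm χ, P.card_eq_multiplicity]
    push_cast
    ring
  have h3 : ∑ χ ∈ s, (d χ : ℂ) * (χ : G → ℂ) 1 =
      ((∑ χ ∈ s, d χ * charDegree (χ : G → ℂ) : ℕ) : ℂ) := by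
    push_cast
    apply Finset.sum_congr rfl
    intro χ _
    rw [(irr_charDegree χ).1]
  rw [h2, h3] at h1
  refine ⟨∑ χ ∈ s, d χ * m χ, ?_⟩
  exact_mod_cast h1.symm

/-- **Blocks of rank one.** -/
theorem rank_one_main (hM : IsPModular p M) (B : Set (IrrCharacter G)) (hB : IsPBlock M B)
    (hl : blockRank p B = 1) :
    ∃ φ : G → ℂ, ∃ d : IrrCharacter G → ℕ,
      (∃ n : IrrCharacter G → ℤ, ∀ x : G, IsPRegular p x →
        φ x = ∑ᶠ ψ ∈ B, (n ψ : ℂ) * (ψ : G → ℂ) x) ∧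
      (∀ χ ∈ B, ∀ x : G, IsPRegular p x → (χ : G → ℂ) x = (d χ : ℂ) * φ x) ∧
      ∑ᶠ χ ∈ B, d χ ^ 2 = p ^ blockDefect p B := by
  classical
  letI := Cfsg.Agent.H4.fintypeIrr G
  have hp : p.Prime := Fact.out
  have hMp := isPrime_of_isPModular hM
  have hone : ¬ p ∣ orderOf (1 : G) := by
    rw [orderOf_one]; exact hp.one_lt.ne' ∘ Nat.dvd_one.mp
  have hB' := hB
  obtain ⟨χ₀, hχ₀⟩ := hB
  have h₀ : χ₀ ∈ B := by rw [hχ₀]; exact mem_blockOf_self hM χ₀
  obtain ⟨s, hs⟩ : ∃ s : Finset (IrrCharacter G), s = Finset.univ.filter (· ∈ B) := ⟨_, rfl⟩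
  have hmem : ∀ χ, χ ∈ s ↔ χ ∈ B := fun χ => by simp [hs]
  have hBs : B = (s : Set (IrrCharacter G)) := by ext χ; simp [hs]
  obtain ⟨deg, hdeg⟩ : ∃ deg : IrrCharacter G → ℕ,
      deg = fun χ : IrrCharacter G => charDegree (χ : G → ℂ) :=
    ⟨_, rfl⟩
  have hdegχ : ∀ χ : IrrCharacter G, charDegree (χ : G → ℂ) = deg χ := fun χ => by rw [hdeg]
  have hdeg1 : ∀ χ : IrrCharacter G, (χ : G → ℂ) 1 = (deg χ : ℂ) := fun χ => by
    rw [hdeg]; exact (irr_charDegree χ).1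
  have hdegpos : ∀ χ : IrrCharacter G, 0 < deg χ := fun χ => by
    rw [hdeg]; exact (irr_charDegree χ).2
  -- the gcd of the degrees
  obtain ⟨n, hn⟩ := Finset.gcd_eq_sum_mul s (fun χ => (deg χ : ℤ))
  have hgnn : 0 ≤ s.gcd (fun χ => (deg χ : ℤ)) :=
    Int.nonneg_of_normalize_eq_self Finset.normalize_gcd
  obtain ⟨g, hg⟩ := Int.eq_ofNat_of_zero_le hgnn
  have hgdvd : ∀ χ ∈ B, g ∣ deg χ := by
    intro χ hχ
    have h1 := Finset.gcd_dvd (f := fun χ => (deg χ : ℤ)) ((hmem χ).2 hχ)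
    rw [hg] at h1
    exact Int.natCast_dvd_natCast.1 h1
  have hgpos : 0 < g := Nat.pos_of_dvd_of_pos (hgdvd χ₀ h₀) (hdegpos χ₀)
  have hgC : (g : ℂ) ≠ 0 := by exact_mod_cast hgpos.ne'
  obtain ⟨d, hd⟩ : ∃ d : IrrCharacter G → ℕ, d = fun χ => deg χ / g := ⟨_, rfl⟩
  have hdg : ∀ χ ∈ B, deg χ = g * d χ := fun χ hχ => by
    rw [hd]; exact (Nat.mul_div_cancel' (hgdvd χ hχ)).symm
  have hn' : (g : ℤ) = ∑ a ∈ s, (deg a : ℤ) * n a := by rw [← hg]; exact hn
  have hbez : ∑ χ ∈ s, (d χ : ℤ) * n χ = 1 := by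
    have h1 : (g : ℤ) * ∑ χ ∈ s, (d χ : ℤ) * n χ = (g : ℤ) * 1 := by
      calc (g : ℤ) * ∑ χ ∈ s, (d χ : ℤ) * n χ = ∑ χ ∈ s, (deg χ : ℤ) * n χ := by
            rw [Finset.mul_sum]
            apply Finset.sum_congr rfl
            intro χ hχ
            rw [hdg χ ((hmem χ).1 hχ)]
            push_cast
            ring
        _ = (g : ℤ) * 1 := by rw [mul_one, ← hn']
    exact mul_left_cancel₀ (by exact_mod_cast hgpos.ne') h1
  have hbezC : ∑ χ ∈ s, (d χ : ℂ) * (n χ : ℂ) = 1 := by exact_mod_cast hbez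
  have hd0 : (deg χ₀ : ℂ) ≠ 0 := by exact_mod_cast (hdegpos χ₀).ne'
  obtain ⟨φ, hφ⟩ : ∃ φ : G → ℂ, φ = fun x => (g : ℂ) * (χ₀ : G → ℂ) x / (deg χ₀ : ℂ) := ⟨_, rfl⟩
  -- Claim A
  have hA : ∀ χ ∈ B, ∀ x : G, ¬ p ∣ orderOf x → (χ : G → ℂ) x = (d χ : ℂ) * φ x := by
    intro χ hχ x hx
    have h1 := rank_one_proportional B hl χ₀ χ h₀ hχ x
    rw [pRegularPart_of_not_dvd p _ hx, pRegularPart_of_not_dvd p _ hx] at h1
    have h2 : (charDegree (χ : G → ℂ) : ℂ) = (g : ℂ) * (d χ : ℂ) := by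
      rw [hdegχ χ, hdg χ hχ]; push_cast; rfl
    have h3 : (charDegree (χ₀ : G → ℂ) : ℂ) = (deg χ₀ : ℂ) := by rw [hdegχ]
    rw [h2, h3] at h1
    rw [hφ]
    field_simp
    linear_combination h1
  -- Claim B
  have hBsum : ∀ f : IrrCharacter G → ℂ, ∑ᶠ ψ ∈ B, f ψ = ∑ ψ ∈ s, f ψ := by
    intro f
    exact (finsum_mem_congr hBs (fun _ _ => rfl)).trans (finsum_mem_coe_finset _ _)
  have hBφ : ∀ x : G, ¬ p ∣ orderOf x →
      φ x = ∑ᶠ ψ ∈ B, (n ψ : ℂ) * (ψ : G → ℂ) x := by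
    intro x hx
    rw [hBsum]
    have h1 : ∑ ψ ∈ s, (n ψ : ℂ) * (ψ : G → ℂ) x = ∑ ψ ∈ s, ((d ψ : ℂ) * (n ψ : ℂ)) * φ x := by
      apply Finset.sum_congr rfl
      intro ψ hψ
      rw [hA ψ ((hmem ψ).1 hψ) x hx]
      ring
    rw [h1, ← Finset.sum_mul, hbezC, one_mul]
  -- c
  obtain ⟨c, hc⟩ : ∃ c : ℕ, c = ∑ χ ∈ s, d χ ^ 2 := ⟨_, rfl⟩
  have hcsum : ∑ᶠ χ ∈ B, d χ ^ 2 = c := by
    rw [hc]
    exact (finsum_mem_congr hBs (fun _ _ => rfl)).trans (finsum_mem_coe_finset _ _)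
  refine ⟨φ, d, ⟨n, hBφ⟩, hA, ?_⟩
  rw [hcsum]
  apply Nat.dvd_antisymm
  · -- c ∣ p ^ D
    obtain ⟨θ, hθ⟩ : ∃ θ : G → ℂ, θ = fun x => ∑ᶠ ψ ∈ B, (n ψ : ℂ) * (ψ : G → ℂ) x := ⟨_, rfl⟩
    obtain ⟨N, hN⟩ := pReg_span hM B hB' θ n (fun g => by rw [hθ])
    have hθφ : ∀ x : G, pRegularPart p θ x = pRegularPart p φ x := by
      intro x
      by_cases hx : p ∣ orderOf x
      · rw [pRegularPart_of_dvd p _ hx, pRegularPart_of_dvd p _ hx]
      · rw [pRegularPart_of_not_dvd p _ hx, pRegularPart_of_not_dvd p _ hx, hθ]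
        exact (hBφ x hx).symm
    obtain ⟨J, hJ⟩ : ∃ J : ℂ, J = classInner (pRegularPart p φ) φ := ⟨_, rfl⟩
    have hNJ : ∀ ψ ∈ B, (N ψ : ℂ) = (p : ℂ) ^ blockDefect p B * (d ψ : ℂ) * J := by
      intro ψ hψ
      have h1 : (fun x : G => (p : ℂ) ^ blockDefect p B * pRegularPart p θ x) =
          ∑ᶠ χ : IrrCharacter G, (if χ ∈ B then (N χ : ℂ) else 0) • (χ : G → ℂ) := by
        funext x
        rw [Cfsg.Agent.H4.finsum_irr_apply, hN x, Cfsg.Agent.H20.finsum_mem_irr,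
          Cfsg.Agent.H4.finsum_irr_eq_sum]
        apply Finset.sum_congr rfl
        intro χ _
        split_ifs <;> simp
      have h2 := Cfsg.Agent.H4.classInner_finsum_irr
        (fun χ : IrrCharacter G => if χ ∈ B then (N χ : ℂ) else 0) ψ
      rw [← h1] at h2
      simp only [if_pos hψ] at h2
      rw [← h2, hJ]
      calc classInner (fun x : G => (p : ℂ) ^ blockDefect p B * pRegularPart p θ x) (ψ : G → ℂ)
          = (Nat.card G : ℂ)⁻¹ * ∑ x : G, ((p : ℂ) ^ blockDefect p B * (d ψ : ℂ)) *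
              (pRegularPart p φ x * conj (φ x)) := by
            unfold classInner
            congr 1
            apply Finset.sum_congr rfl
            intro x _
            simp only []
            rw [hθφ x]
            by_cases hx : p ∣ orderOf x
            · rw [pRegularPart_of_dvd p _ hx]; ring
            · rw [hA ψ hψ x hx, map_mul, Complex.conj_natCast]; ring
        _ = (p : ℂ) ^ blockDefect p B * (d ψ : ℂ) * classInner (pRegularPart p φ) φ := by
            unfold classInner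
            rw [← Finset.mul_sum]
            ring
    have hk : ((∑ ψ ∈ s, N ψ * n ψ : ℤ) : ℂ) = (p : ℂ) ^ blockDefect p B * J := by
      push_cast
      have h1 : ∑ ψ ∈ s, (N ψ : ℂ) * (n ψ : ℂ) =
          ∑ ψ ∈ s, ((d ψ : ℂ) * (n ψ : ℂ)) * ((p : ℂ) ^ blockDefect p B * J) := by
        apply Finset.sum_congr rfl
        intro ψ hψ
        rw [hNJ ψ ((hmem ψ).1 hψ)]
        ring
      rw [h1, ← Finset.sum_mul, hbezC, one_mul]
    have h1 := hN 1
    rw [hθφ 1, pRegularPart_of_not_dvd p _ hone, hBsum] at h1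
    have hφ1 : φ 1 = (g : ℂ) := by
      rw [hφ]
      simp only
      rw [hdeg1 χ₀]
      field_simp
    have h2 : ∑ ψ ∈ s, (N ψ : ℂ) * (ψ : G → ℂ) 1 =
        ((p : ℂ) ^ blockDefect p B * J) * (g : ℂ) * (c : ℂ) := by
      rw [hc]
      push_cast
      rw [Finset.mul_sum]
      apply Finset.sum_congr rfl
      intro ψ hψ
      rw [hNJ ψ ((hmem ψ).1 hψ), hdeg1 ψ, hdg ψ ((hmem ψ).1 hψ)]
      push_cast
      ring
    rw [hφ1, h2, ← hk] at h1
    have h3 : ((p ^ blockDefect p B : ℕ) : ℤ) = (∑ ψ ∈ s, N ψ * n ψ) * (c : ℤ) := by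
      have h4 : (((p ^ blockDefect p B : ℕ) : ℤ) : ℂ) =
          (((∑ ψ ∈ s, N ψ * n ψ) * (c : ℤ) : ℤ) : ℂ) := by
        push_cast
        have h5 : (g : ℂ) * ((p : ℂ) ^ blockDefect p B) =
            (g : ℂ) * (((∑ ψ ∈ s, N ψ * n ψ : ℤ) : ℂ) * (c : ℂ)) := by
          rw [mul_comm (g : ℂ), h1]; ring
        have h6 := mul_left_cancel₀ hgC h5
        rw [h6]; push_cast; rfl
      exact_mod_cast h4
    exact Int.natCast_dvd_natCast.1 ⟨_, by rw [h3]; ring⟩
  · -- p ^ D ∣ c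
    have hvan : ∀ y : G, p ∣ orderOf y → ∑ χ ∈ s, (d χ : ℂ) * (χ : G → ℂ) y = 0 := by
      intro y hy
      have h1 := wbo_one hM χ₀ 1 y hone hy
      rw [← hχ₀, hBsum] at h1
      have h2 : (g : ℂ) * conj (∑ χ ∈ s, (d χ : ℂ) * (χ : G → ℂ) y) = 0 := by
        rw [← h1, map_sum, Finset.mul_sum]
        apply Finset.sum_congr rfl
        intro χ hχ
        rw [hdeg1 χ, hdg χ ((hmem χ).1 hχ), map_mul, Complex.conj_natCast]
        push_cast
        ring
      have h3 := (mul_eq_zero.1 h2).resolve_left hgC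
      simpa using congrArg conj h3
    have h1 := pow_dvd_of_vanish_sum s d hvan
    have h2 : ∑ χ ∈ s, d χ * charDegree (χ : G → ℂ) = g * c := by
      rw [hc, Finset.mul_sum]
      apply Finset.sum_congr rfl
      intro χ hχ
      rw [hdegχ χ, hdg χ ((hmem χ).1 hχ)]; ring
    rw [h2] at h1
    -- a character of height zero
    have hne : ((fun χ : IrrCharacter G => (charDegree (χ : G → ℂ)).factorization p) '' B).Nonempty :=
      ⟨_, χ₀, h₀, rfl⟩
    obtain ⟨χ₁, hχ₁, he⟩ := Nat.sInf_mem hne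
    have hD : blockDefect p B = (Nat.card G).factorization p -
        (charDegree (χ₁ : G → ℂ)).factorization p := by
      unfold blockDefect
      rw [← he]
    have hle : (charDegree (χ₁ : G → ℂ)).factorization p ≤ (Nat.card G).factorization p :=
      (Nat.factorization_le_iff_dvd (irr_charDegree χ₁).2.ne' Nat.card_pos.ne').2
        (irr_charDegree_dvd χ₁) p
    have hu := Nat.not_dvd_ordCompl hp (irr_charDegree χ₁).2.ne'
    have hdecomp := Nat.ordProj_mul_ordCompl_eq_self (charDegree (χ₁ : G → ℂ)) p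
    have h3 : p ^ (Nat.card G).factorization p ∣ charDegree (χ₁ : G → ℂ) * c :=
      h1.trans (Nat.mul_dvd_mul_right (by
        rw [hdegχ χ₁]
        exact hgdvd χ₁ hχ₁) c)
    rw [← hdecomp] at h3
    have h4 : (Nat.card G).factorization p =
        (charDegree (χ₁ : G → ℂ)).factorization p + blockDefect p B := by
      rw [hD]; omega
    rw [h4, pow_add, mul_assoc] at h3
    have h5 := Nat.dvd_of_mul_dvd_mul_left (pow_pos hp.pos _) h3
    exact (Nat.Coprime.pow_left _ ((Nat.Prime.coprime_iff_not_dvd hp).2 hu)).dvd_of_dvd_mul_left h5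

end Cfsg.Agent.H81
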