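import Mathlib
import Cfsg.Prelude.Def_Blocks
import Cfsg.Prelude.Def_BlockRank
import Cfsg.Agent.H81.RankOne
import Cfsg.Agent.H81.DefectCount
import Cfsg.Agent.H4.RBrauer

set_option autoImplicit false
set_option linter.style.haveILetI false
set_option linter.unusedSectionVars false

/-!
# helper81: the `p`-part of the dimension of a block

* `local_expansion`: a class function with local-integral values is, on the `p`-regular elements
  and up to the `p'`-part of the group order, a local-integral combination of irreducible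
  characters.
* `sq_sum_factorization` (Brauer): `ν_p(∑_{χ ∈ B} χ(1)²) = 2a - d`.
-/

namespace Cfsg.Agent.H81

open Cfsg Cfsg.Agent.H20
open ComplexConjugate

variable {G : Type*} [Group G] [Fintype G] {p : ℕ} [Fact p.Prime] {M : Ideal AlgInt}

/-- A class function with values in the local ring is, on the `p`-regular elements and up to
the `p'`-part of the group order, a combination of the irreducible characters with coefficients
in the local ring. -/
theorem local_expansion (hM : IsPModular p M) (f : G → ℂ) (hf : IsClassFunction G f)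
    (hfl : ∀ x, MemLocalRing M (f x)) :
    ∃ z : IrrCharacter G → ℂ, (∀ χ, MemLocalRing M (z χ)) ∧
      ∀ x : G, ¬ p ∣ orderOf x →
        ((Nat.card G / p ^ (Nat.card G).factorization p : ℕ) : ℂ) * f x =
          ∑ᶠ χ : IrrCharacter G, z χ * (χ : G → ℂ) x := by
  classical
  letI := Cfsg.Agent.H4.fintypeIrr G
  have hp : p.Prime := Fact.out
  have hMp := isPrime_of_isPModular hM
  obtain ⟨m, hm⟩ : ∃ m : ℕ, m = p ^ (Nat.card G).factorization p := ⟨_, rfl⟩
  obtain ⟨n, hn⟩ : ∃ n : ℕ, n = Nat.card G / p ^ (Nat.card G).factorization p := ⟨_, rfl⟩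
  have hmn : Nat.card G = m * n := by
    rw [hm, hn]; exact (Nat.ordProj_mul_ordCompl_eq_self _ p).symm
  have hcop : Nat.Coprime m n := by
    rw [hm, hn]
    exact Nat.Coprime.pow_left _ ((Nat.Prime.coprime_iff_not_dvd hp).2
      (Nat.not_dvd_ordCompl hp Nat.card_pos.ne'))
  have key : ∀ g : G, ∃ c : IrrCharacter G → ℂ, (∀ χ, IsIntegral ℤ (c χ)) ∧
      (fun x : G => if Cfsg.Agent.H4.SecPred m n g x then (n : ℂ) else 0) =
        ∑ᶠ χ : IrrCharacter G, c χ • (χ : G → ℂ) :=
    fun g => Cfsg.Agent.H4.section_indicator_isIntegral m n hmn hcop g _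
      (fun x hx => if_pos hx) (fun x hx => if_neg hx)
  choose c hc1 hc2 using key
  refine ⟨fun χ => ∑ C : ConjClasses G, f (Quotient.out C) * c (Quotient.out C) χ, ?_, ?_⟩
  · intro χ
    apply memLocalRing_sum hMp
    intro C _
    exact memLocalRing_mul hMp (hfl _) (memLocalRing_algInt hMp ⟨_, hc1 _ χ⟩)
  · intro x hx
    rw [← hn, Cfsg.Agent.H4.finsum_irr_eq_sum]
    have h1 : ∀ g : G, ∑ χ : IrrCharacter G, c g χ * (χ : G → ℂ) x =
        if IsConj x g then (n : ℂ) else 0 := by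
      intro g
      have h2 := congrFun (hc2 g) x
      rw [Cfsg.Agent.H4.finsum_irr_apply, Cfsg.Agent.H4.finsum_irr_eq_sum] at h2
      rw [← h2]
      have hxn : x ^ n = 1 := by
        apply orderOf_dvd_iff_pow_eq_one.mp
        have h3 : orderOf x ∣ m * n := hmn ▸ orderOf_dvd_natCard x
        have h4 : Nat.Coprime (orderOf x) m := by
          rw [hm]
          exact Nat.Coprime.pow_right _
            (Nat.Coprime.symm ((Nat.Prime.coprime_iff_not_dvd hp).2 hx))
        exact h4.dvd_of_dvd_mul_left h3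
      have h5 := Cfsg.Agent.H4.secPred_iff hmn hcop g 1 x (Commute.one_left x) (one_pow m) hxn
      rw [one_mul] at h5
      simp only [h5]
    calc (n : ℂ) * f x = ∑ C : ConjClasses G,
          f (Quotient.out C) * (if IsConj x (Quotient.out C) then (n : ℂ) else 0) := by
          rw [Finset.sum_eq_single (ConjClasses.mk x)]
          · have h6 : IsConj x (Quotient.out (ConjClasses.mk x)) := by
              rw [← ConjClasses.mk_eq_mk_iff_isConj]
              exact (Quotient.out_eq _).symm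
            rw [if_pos h6]
            obtain ⟨u, hu⟩ := isConj_iff.mp h6
            rw [← hu, hf x u]; ring
          · intro C _ hC
            rw [if_neg, mul_zero]
            intro h6
            apply hC
            rw [← Quotient.out_eq C]
            exact (ConjClasses.mk_eq_mk_iff_isConj.mpr h6).symm
          · intro h; exact absurd (Finset.mem_univ _) h
      _ = ∑ χ : IrrCharacter G, (∑ C : ConjClasses G,
            f (Quotient.out C) * c (Quotient.out C) χ) * (χ : G → ℂ) x := by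
          simp only [Finset.sum_mul]
          rw [Finset.sum_comm]
          apply Finset.sum_congr rfl
          intro C _
          rw [← h1, Finset.mul_sum]
          apply Finset.sum_congr rfl
          intro χ _
          ring

/-- **Brauer**: the exact power of `p` dividing `∑_{χ ∈ B} χ(1)²` is `p ^ (2a - d)`. -/
theorem sq_sum_factorization (hM : IsPModular p M) (B : Set (IrrCharacter G))
    (hB : IsPBlock M B) :
    (∑ᶠ χ ∈ B, charDegree (χ : G → ℂ) ^ 2).factorization p =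
      2 * (Nat.card G).factorization p - blockDefect p B := by
  classical
  letI := Cfsg.Agent.H4.fintypeIrr G
  have hp : p.Prime := Fact.out
  have hMp := isPrime_of_isPModular hM
  have hone : ¬ p ∣ orderOf (1 : G) := by
    rw [orderOf_one]; exact hp.one_lt.ne' ∘ Nat.dvd_one.mp
  obtain ⟨χ₀, hχ₀⟩ := hB
  have h₀ : χ₀ ∈ B := by rw [hχ₀]; exact mem_blockOf_self hM χ₀
  obtain ⟨s, hs⟩ : ∃ s : Finset (IrrCharacter G), s = Finset.univ.filter (· ∈ B) := ⟨_, rfl⟩
  have hmem : ∀ χ, χ ∈ s ↔ χ ∈ B := fun χ => by simp [hs]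
  have hBs : B = (s : Set (IrrCharacter G)) := by ext χ; simp [hs]
  obtain ⟨a, ha⟩ : ∃ a : ℕ, a = (Nat.card G).factorization p := ⟨_, rfl⟩
  obtain ⟨n', hn'⟩ : ∃ n' : ℕ, n' = Nat.card G / p ^ a := ⟨_, rfl⟩
  have hcard : Nat.card G = p ^ a * n' := by
    rw [hn', ha]; exact (Nat.ordProj_mul_ordCompl_eq_self _ p).symm
  have hn'p : ¬ p ∣ n' := by
    rw [hn', ha]; exact Nat.not_dvd_ordCompl hp Nat.card_pos.ne'
  -- a character of height zero
  have hne : ((fun χ : IrrCharacter G => (charDegree (χ : G → ℂ)).factorization p) '' B).Nonempty :=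
    ⟨_, χ₀, h₀, rfl⟩
  obtain ⟨χ₁, hχ₁, he⟩ := Nat.sInf_mem hne
  have he : (charDegree (χ₁ : G → ℂ)).factorization p =
      sInf ((fun χ : IrrCharacter G => (charDegree (χ : G → ℂ)).factorization p) '' B) := he
  obtain ⟨e, he'⟩ : ∃ e : ℕ, e = (charDegree (χ₁ : G → ℂ)).factorization p := ⟨_, rfl⟩
  obtain ⟨D, hDdef⟩ : ∃ D : ℕ, D = blockDefect p B := ⟨_, rfl⟩
  have hD : D = a - e := by
    rw [hDdef, ha, he']
    unfold blockDefect
    rw [← he]
  have hle : e ≤ a := by
    rw [he', ha]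
    exact (Nat.factorization_le_iff_dvd (irr_charDegree χ₁).2.ne' Nat.card_pos.ne').2
      (irr_charDegree_dvd χ₁) p
  have haD : a = e + D := by omega
  have hdvd : ∀ χ ∈ B, p ^ e ∣ charDegree (χ : G → ℂ) := by
    intro χ hχ
    have h1 : e ≤ (charDegree (χ : G → ℂ)).factorization p := by
      rw [he', he]
      exact Nat.sInf_le ⟨χ, hχ, rfl⟩
    exact (pow_dvd_pow p h1).trans (Nat.ordProj_dvd _ p)
  obtain ⟨μ, hμ⟩ : ∃ μ : IrrCharacter G → ℕ,
      μ = fun χ : IrrCharacter G => charDegree (χ : G → ℂ) / p ^ e := ⟨_, rfl⟩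
  have hdeg : ∀ χ ∈ B, charDegree (χ : G → ℂ) = p ^ e * μ χ := fun χ hχ => by
    rw [hμ]; exact (Nat.mul_div_cancel' (hdvd χ hχ)).symm
  have hμ₁ : ¬ p ∣ μ χ₁ := by
    rw [hμ, he']; exact Nat.not_dvd_ordCompl hp (irr_charDegree χ₁).2.ne'
  have hdegC : ∀ χ ∈ B, (χ : G → ℂ) 1 = (p : ℂ) ^ e * (μ χ : ℂ) := fun χ hχ => by
    rw [(irr_charDegree χ).1, hdeg χ hχ]; push_cast; rfl
  obtain ⟨S, hS⟩ : ∃ S : ℕ, S = ∑ χ ∈ s, μ χ ^ 2 := ⟨_, rfl⟩
  have hsum : ∑ᶠ χ ∈ B, charDegree (χ : G → ℂ) ^ 2 = p ^ (2 * e) * S := by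
    rw [(finsum_mem_congr hBs (fun _ _ => rfl)).trans (finsum_mem_coe_finset _ _), hS,
      Finset.mul_sum]
    apply Finset.sum_congr rfl
    intro χ hχ
    rw [hdeg χ ((hmem χ).1 hχ)]; ring
  have hSpos : S ≠ 0 := by
    rw [hS]
    have h1 : 0 < μ χ₁ ^ 2 := by
      have h2 : μ χ₁ ≠ 0 := fun h => hμ₁ (h ▸ dvd_zero p)
      positivity
    have h3 := Finset.single_le_sum (f := fun χ => μ χ ^ 2) (fun _ _ => Nat.zero_le _)
      ((hmem χ₁).2 hχ₁)
    exact (Nat.lt_of_lt_of_le h1 h3).ne'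
  have hBsum : ∀ f : IrrCharacter G → ℂ, ∑ᶠ ψ ∈ B, f ψ = ∑ ψ ∈ s, f ψ := by
    intro f
    exact (finsum_mem_congr hBs (fun _ _ => rfl)).trans (finsum_mem_coe_finset _ _)
  have hpe : ((p : ℂ) ^ e) ≠ 0 := pow_ne_zero _ (by exact_mod_cast hp.ne_zero)
  have hpD : ((p : ℂ) ^ D) ≠ 0 := pow_ne_zero _ (by exact_mod_cast hp.ne_zero)
  have hn'C : (n' : ℂ) ≠ 0 := by
    have : n' ≠ 0 := fun h => hn'p (h ▸ dvd_zero p)
    exact_mod_cast this
  -- vanishing on `p`-singular elements
  have hvan : ∀ y : G, p ∣ orderOf y → ∑ χ ∈ s, (μ χ : ℂ) * (χ : G → ℂ) y = 0 := by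
    intro y hy
    have h1 := wbo_one hM χ₀ 1 y hone hy
    rw [← hχ₀, hBsum] at h1
    have h2 : (p : ℂ) ^ e * conj (∑ χ ∈ s, (μ χ : ℂ) * (χ : G → ℂ) y) = 0 := by
      rw [← h1, map_sum, Finset.mul_sum]
      apply Finset.sum_congr rfl
      intro χ hχ
      rw [hdegC χ ((hmem χ).1 hχ), map_mul, Complex.conj_natCast]
      ring
    have h3 := (mul_eq_zero.1 h2).resolve_left hpe
    simpa using congrArg conj h3
  -- lower bound
  have hge : p ^ D ∣ S := by
    have h1 := pow_dvd_of_vanish_sum s μ hvan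
    have h2 : ∑ χ ∈ s, μ χ * charDegree (χ : G → ℂ) = p ^ e * S := by
      rw [hS, Finset.mul_sum]
      apply Finset.sum_congr rfl
      intro χ hχ
      rw [hdeg χ ((hmem χ).1 hχ)]; ring
    rw [h2, ← ha, haD, pow_add] at h1
    exact Nat.dvd_of_mul_dvd_mul_left (pow_pos hp.pos _) h1
  -- upper bound
  have hle' : ¬ p ^ (D + 1) ∣ S := by
    intro hdiv
    obtain ⟨f, hf⟩ : ∃ f : G → ℂ,
        f = fun y => (∑ χ ∈ s, (μ χ : ℂ) * (χ : G → ℂ) y) / (p : ℂ) ^ D := ⟨_, rfl⟩
    have hfcf : IsClassFunction G f := by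
      intro g h
      rw [hf]
      simp only []
      congr 1
      apply Finset.sum_congr rfl
      intro χ _
      rw [Cfsg.Agent.H4.irr_isClassFunction χ g h]
    have hfbc : ∀ y, f y = (n' : ℂ) * blockCoeff B y⁻¹ := by
      intro y
      rw [hf, blockCoeff_eq]
      simp only []
      rw [← Finset.sum_filter, ← hs, hcard]
      have h1 : ∑ χ ∈ s, (χ : G → ℂ) 1 * conj ((χ : G → ℂ) y⁻¹) =
          (p : ℂ) ^ e * ∑ χ ∈ s, (μ χ : ℂ) * (χ : G → ℂ) y := by
        rw [Finset.mul_sum]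
        apply Finset.sum_congr rfl
        intro χ hχ
        rw [hdegC χ ((hmem χ).1 hχ), ← irr_inv, inv_inv]; ring
      rw [h1, haD, pow_add]
      push_cast
      field_simp
    have hfl : ∀ y, MemLocalRing M (f y) := by
      intro y
      rw [hfbc, hχ₀]
      exact memLocalRing_mul hMp (memLocalRing_natCast hMp n')
        (blockCoeff_memLocalRing hMp χ₀ y⁻¹)
    obtain ⟨z, hz1, hz2⟩ := local_expansion hM f hfcf hfl
    rw [← ha, ← hn'] at hz2
    have hfun : (fun x : G => (n' : ℂ) * f x) =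
        ∑ χ : IrrCharacter G, z χ • pRegularPart p (χ : G → ℂ) := by
      funext x
      rw [Finset.sum_apply]
      by_cases hx : p ∣ orderOf x
      · have h1 : f x = 0 := by
          rw [hf]; simp only []; rw [hvan x hx, zero_div]
        rw [h1, mul_zero]
        symm
        apply Finset.sum_eq_zero
        intro χ _
        rw [Pi.smul_apply, pRegularPart_of_dvd p _ hx, smul_zero]
      · rw [hz2 x hx, Cfsg.Agent.H4.finsum_irr_eq_sum]
        apply Finset.sum_congr rfl
        intro χ _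
        rw [Pi.smul_apply, pRegularPart_of_not_dvd p _ hx, smul_eq_mul]
    have hfcomb : (fun x : G => (n' : ℂ) * f x) =
        ∑ χ ∈ s, ((n' : ℂ) * (μ χ : ℂ) / (p : ℂ) ^ D) • (χ : G → ℂ) := by
      funext x
      rw [Finset.sum_apply, hf]
      simp only [Pi.smul_apply, smul_eq_mul]
      rw [Finset.sum_div, Finset.mul_sum]
      apply Finset.sum_congr rfl
      intro χ _
      ring
    have hinner : ∀ (c : IrrCharacter G → ℂ) (ξ : IrrCharacter G),
        classInner (∑ χ ∈ s, c χ • (χ : G → ℂ)) (ξ : G → ℂ) = if ξ ∈ B then c ξ else 0 := by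
      intro c ξ
      rw [Cfsg.Agent.H4.classInner_sum_left]
      simp only [Cfsg.Agent.H4.classInner_smul_left, Cfsg.Agent.H4.irr_inner, mul_ite, mul_one,
        mul_zero]
      rw [Finset.sum_ite_eq' s ξ c]
      simp only [hmem]
    have hi : classInner (fun x : G => (n' : ℂ) * f x) (χ₁ : G → ℂ) =
        (n' : ℂ) * (μ χ₁ : ℂ) / (p : ℂ) ^ D := by
      rw [hfcomb, hinner, if_pos hχ₁]
    -- the central element
    obtain ⟨z₀, hz₀⟩ : ∃ z₀ : MonoidAlgebra ℂ G, z₀ = ∑ g : G, MonoidAlgebra.single g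
        (if p ∣ orderOf g then 0 else conj ((χ₁ : G → ℂ) g)) := ⟨_, rfl⟩
    have hz₀c : ∀ g, z₀.coeff g = if p ∣ orderOf g then 0 else conj ((χ₁ : G → ℂ) g) := by
      intro g
      rw [hz₀, MonoidAlgebra.coeff_sum, Finsupp.finsetSum_apply]
      simp only [MonoidAlgebra.coeff_single, Finsupp.single_apply]
      rw [Finset.sum_ite_eq']
      simp
    have hz₀mem : z₀ ∈ cfSubring G (localRing M hMp) := by
      refine ⟨fun g h => ?_, fun g => ?_⟩
      · rw [hz₀c, hz₀c, orderOf_conj_eq g h, Cfsg.Agent.H4.irr_isClassFunction χ₁ g h]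
      · rw [hz₀c]
        split_ifs
        · exact (localRing M hMp).zero_mem
        · rw [← irr_inv]
          exact memLocalRing_algInt hMp ⟨_, irr_isIntegral χ₁ g⁻¹⟩
    have hG : (Nat.card G : ℂ) ≠ 0 := by exact_mod_cast (Nat.card_pos (α := G)).ne'
    have hiii : ∀ χ : IrrCharacter G, classInner (pRegularPart p (χ : G → ℂ)) (χ₁ : G → ℂ) =
        (χ : G → ℂ) 1 / (Nat.card G : ℂ) * omega (χ : G → ℂ) z₀ := by
      intro χ
      unfold classInner omega
      have hχ1 : (χ : G → ℂ) 1 ≠ 0 := irr_one_ne_zero χ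
      have h1 : ∑ g : G, pRegularPart p (χ : G → ℂ) g * conj ((χ₁ : G → ℂ) g) =
          ∑ g : G, z₀.coeff g * (χ : G → ℂ) g := by
        apply Finset.sum_congr rfl
        intro g _
        rw [hz₀c, pRegularPart_apply]
        split_ifs <;> ring
      rw [h1]
      field_simp
    have h1χ : SameBlock M (χ₀ : G → ℂ) (χ₁ : G → ℂ) := by rw [hχ₀] at hχ₁; exact hχ₁
    have hii : classInner (fun x : G => (n' : ℂ) * f x) (χ₁ : G → ℂ) =
        ∑ χ ∈ s, z χ * ((χ : G → ℂ) 1 / (Nat.card G : ℂ) * omega (χ : G → ℂ) z₀) := by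
      rw [hfun, Cfsg.Agent.H4.classInner_sum_left, hs, Finset.sum_filter]
      apply Finset.sum_congr rfl
      intro χ _
      rw [Cfsg.Agent.H4.classInner_smul_left]
      split_ifs with hχ
      · rw [hiii]
      · rw [wbo_two hM χ χ₁ ?_, mul_zero]
        intro h
        apply hχ
        rw [hχ₀]
        exact Cfsg.Agent.H80.sameBlock_trans hMp h1χ (Cfsg.Agent.H80.sameBlock_symm h)
    have hiv : ∀ χ ∈ B, MemLocalIdeal M
        (omega (χ : G → ℂ) z₀ - omega (χ₁ : G → ℂ) z₀) := by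
      intro χ hχ
      have h2 : SameBlock M (χ₀ : G → ℂ) (χ : G → ℂ) := by rw [hχ₀] at hχ; exact hχ
      exact omega_sub_omega_memLocalIdeal hMp _ _ (Cfsg.Agent.H4.irr_isClassFunction χ)
        (Cfsg.Agent.H4.irr_isClassFunction χ₁)
        (Cfsg.Agent.H80.sameBlock_trans hMp (Cfsg.Agent.H80.sameBlock_symm h2) h1χ) hz₀mem
    obtain ⟨Φ, hΦ⟩ : ∃ Φ : G → ℂ, Φ = ∑ χ ∈ s, (μ χ : ℂ) • (χ : G → ℂ) := ⟨_, rfl⟩
    have hΦinner : ∀ ξ : IrrCharacter G,
        classInner (ξ : G → ℂ) Φ = if ξ ∈ B then (μ ξ : ℂ) else 0 := by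
      intro ξ
      rw [← Cfsg.Agent.H4.classInner_conj_symm, hΦ, hinner]
      split_ifs <;> simp
    have hΦvan : ∀ y, p ∣ orderOf y → Φ y = 0 := by
      intro y hy
      rw [hΦ, Finset.sum_apply]
      simpa using hvan y hy
    have hv1 : classInner (fun x : G => (n' : ℂ) * f x) Φ = ∑ χ ∈ s, z χ * (μ χ : ℂ) := by
      rw [hfun, Cfsg.Agent.H4.classInner_sum_left]
      have h1 : ∀ χ : IrrCharacter G, classInner (pRegularPart p (χ : G → ℂ)) Φ =
          classInner (χ : G → ℂ) Φ := by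
        intro χ
        unfold classInner
        congr 1
        apply Finset.sum_congr rfl
        intro x _
        by_cases hx : p ∣ orderOf x
        · rw [hΦvan x hx]; simp
        · rw [pRegularPart_of_not_dvd p _ hx]
      simp only [Cfsg.Agent.H4.classInner_smul_left, h1, hΦinner]
      rw [hs, Finset.sum_filter]
      apply Finset.sum_congr rfl
      intro χ _
      split_ifs <;> simp
    have hv2 : classInner (fun x : G => (n' : ℂ) * f x) Φ =
        (n' : ℂ) * (S : ℂ) / (p : ℂ) ^ D := by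
      rw [hfcomb, Cfsg.Agent.H4.classInner_sum_left]
      simp only [Cfsg.Agent.H4.classInner_smul_left, hΦinner]
      rw [hS]
      push_cast
      rw [Finset.mul_sum, Finset.sum_div]
      apply Finset.sum_congr rfl
      intro χ hχ
      rw [if_pos ((hmem χ).1 hχ)]; ring
    have h2 : ∑ χ ∈ s, z χ * (μ χ : ℂ) * omega (χ : G → ℂ) z₀ = (n' : ℂ) ^ 2 * (μ χ₁ : ℂ) := by
      have h3 := hi.symm.trans hii
      have h4 : ∑ χ ∈ s, z χ * ((χ : G → ℂ) 1 / (Nat.card G : ℂ) * omega (χ : G → ℂ) z₀) =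
          (∑ χ ∈ s, z χ * (μ χ : ℂ) * omega (χ : G → ℂ) z₀) / ((p : ℂ) ^ D * (n' : ℂ)) := by
        rw [Finset.sum_div]
        apply Finset.sum_congr rfl
        intro χ hχ
        rw [hdegC χ ((hmem χ).1 hχ), hcard, haD]
        push_cast
        rw [pow_add]
        field_simp
      rw [h4] at h3
      field_simp at h3
      linear_combination -h3
    have hfinal : ((n' ^ 2 * μ χ₁ : ℕ) : ℂ) =
        omega (χ₁ : G → ℂ) z₀ * ((n' : ℂ) * (S : ℂ) / (p : ℂ) ^ D) +
          ∑ χ ∈ s, z χ * (μ χ : ℂ) * (omega (χ : G → ℂ) z₀ - omega (χ₁ : G → ℂ) z₀) := by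
      have h1 : ∑ χ ∈ s, z χ * (μ χ : ℂ) * (omega (χ : G → ℂ) z₀ - omega (χ₁ : G → ℂ) z₀) =
          ∑ χ ∈ s, z χ * (μ χ : ℂ) * omega (χ : G → ℂ) z₀ -
            omega (χ₁ : G → ℂ) z₀ * ∑ χ ∈ s, z χ * (μ χ : ℂ) := by
        rw [Finset.mul_sum, ← Finset.sum_sub_distrib]
        apply Finset.sum_congr rfl
        intro χ _
        ring
      rw [h1, h2, ← hv1, hv2]
      push_cast
      ring
    have hmemI : MemLocalIdeal M ((n' ^ 2 * μ χ₁ : ℕ) : ℂ) := by
      rw [hfinal]
      apply memLocalIdeal_add hMp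
      · apply memLocalIdeal_mul_left hMp (omega_memLocalRing hMp χ₁ hz₀mem)
        obtain ⟨t, ht⟩ := hdiv
        have h3 : (n' : ℂ) * (S : ℂ) / (p : ℂ) ^ D = ((p * (n' * t) : ℕ) : ℂ) := by
          rw [ht]
          push_cast
          rw [pow_succ]
          field_simp
        rw [h3]
        exact (memLocalIdeal_natCast_iff hM _).2 (dvd_mul_right p _)
      · apply memLocalIdeal_sum hMp
        intro χ hχ
        exact memLocalIdeal_mul_left hMp
          (memLocalRing_mul hMp (hz1 χ) (memLocalRing_natCast hMp _)) (hiv χ ((hmem χ).1 hχ))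
    have h5 := (memLocalIdeal_natCast_iff hM _).1 hmemI
    rcases (Nat.Prime.dvd_mul hp).1 h5 with h | h
    · exact hn'p (hp.dvd_of_dvd_pow h)
    · exact hμ₁ h
  -- conclusion
  rw [hsum, Nat.factorization_mul (pow_ne_zero _ hp.ne_zero) hSpos, Finsupp.add_apply,
    hp.factorization_pow, Finsupp.single_eq_same]
  have h1 : D ≤ S.factorization p := (hp.pow_dvd_iff_le_factorization hSpos).1 hge
  have h2 : ¬ D + 1 ≤ S.factorization p := fun h =>
    hle' ((hp.pow_dvd_iff_le_factorization hSpos).2 h)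
  rw [← ha, ← hDdef]
  omega

end Cfsg.Agent.H81
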