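import Mathlib
import Cfsg.Prelude.Def_Blocks
import Cfsg.Agent.H20.Sections
import Cfsg.Agent.H20.Inflate
import Cfsg.Agent.H20.HeightZero
import Cfsg.Agent.H79.Fong
import Cfsg.Agent.H80.MaxConj2
import Cfsg.Agent.H84.BlockDom
import Cfsg.Agent.S0906

/-!
# helper81: defect groups of blocks of a quotient dominated by a block

* `isDefectGroup_map_conj` : a conjugate of a defect group is a defect group.
* `card_map_mk_centralizer` : if the class of `y` maps onto the class of its image in `G ⧸ N` with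
  fibres of size prime to `p`, a Sylow `p`-subgroup of `C_G(y)` maps onto a Sylow `p`-subgroup of
  the centralizer of the image.
* `exists_defectGroup_map_ge` : a defect group of a block of `G ⧸ N` dominated by `B` lies in the
  image of a defect group of `B`.
-/

set_option autoImplicit false
set_option linter.style.haveILetI false
set_option linter.unusedSectionVars false

namespace Cfsg.Agent.H81

open Cfsg Cfsg.Agent.H20 Cfsg.Agent.H4
open scoped ComplexConjugate

universe u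

section QuotDefect

variable {G : Type u} [Group G]

/-- A conjugate of a defect group is a defect group. -/
theorem isDefectGroup_map_conj [Fintype G] {p : ℕ} [Fact p.Prime] {M : Ideal AlgInt}
    {B : Set (IrrCharacter G)} {D : Subgroup G} (hD : IsDefectGroup p M B D) (u : G) :
    IsDefectGroup p M B (D.map (MulAut.conj u).toMonoidHom) := by
  obtain ⟨g, hg, S, rfl⟩ := hD
  have hcent := Cfsg.Agent.H80.centralizer_conj g u
  have hcard : Nat.card (Subgroup.centralizer ({u * g * u⁻¹} : Set G))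
      = Nat.card (Subgroup.centralizer ({g} : Set G)) := by
    rw [hcent]
    exact Subgroup.card_map_of_injective (MulEquiv.injective _)
  refine Cfsg.Agent.H79.isDefectGroup_of_card B (u * g * u⁻¹)
    (Cfsg.Agent.H80.isDefectClass_conj hg u) _ ?_ ?_
  · rw [hcent]
    exact Subgroup.map_mono (Subgroup.map_subtype_le _)
  · rw [hcard, Subgroup.card_map_of_injective (f := (MulAut.conj u).toMonoidHom)
      (MulEquiv.injective _), Subgroup.card_map_of_injective (Subgroup.subtype_injective _)]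
    exact S.card_eq_multiplicity

/-- If `[G : C_G(y)] = m [G/N : C_{G/N}(yN)]` with `p ∤ m`, a subgroup of `C_G(y)` of the order of
a Sylow `p`-subgroup maps onto a subgroup of the order of a Sylow `p`-subgroup of
`C_{G/N}(yN)`. -/
theorem card_map_mk_centralizer [Finite G] {p : ℕ} [Fact p.Prime] (N : Subgroup G) [N.Normal]
    (y : G) {m : ℕ}
    (hm : (Subgroup.centralizer ({y} : Set G)).index
      = m * (Subgroup.centralizer ({(y : G ⧸ N)} : Set (G ⧸ N))).index)
    (hpm : ¬ p ∣ m) (P : Subgroup G) (hP : P ≤ Subgroup.centralizer ({y} : Set G))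
    (hcard : Nat.card P = p ^ (Nat.card (Subgroup.centralizer ({y} : Set G))).factorization p) :
    (P.map (QuotientGroup.mk' N)) ≤ Subgroup.centralizer ({(y : G ⧸ N)} : Set (G ⧸ N)) ∧
    Nat.card (P.map (QuotientGroup.mk' N))
      = p ^ (Nat.card (Subgroup.centralizer ({(y : G ⧸ N)} : Set (G ⧸ N)))).factorization p := by
  have hp : p.Prime := Fact.out
  obtain ⟨C, hC⟩ : ∃ C : Subgroup G, C = Subgroup.centralizer ({y} : Set G) := ⟨_, rfl⟩
  obtain ⟨Cb, hCb⟩ : ∃ Cb : Subgroup (G ⧸ N),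
      Cb = Subgroup.centralizer ({(y : G ⧸ N)} : Set (G ⧸ N)) := ⟨_, rfl⟩
  rw [← hC] at hm hP hcard
  rw [← hCb] at hm ⊢
  have hle : P.map (QuotientGroup.mk' N) ≤ Cb := by
    rw [Subgroup.map_le_iff_le_comap, hCb]
    exact hP.trans (hC ▸ Cfsg.Agent.H84.centralizer_le_comap N y)
  refine ⟨hle, ?_⟩
  -- `m * |C| = |Cb| * |N|`
  have e1 : Nat.card C * C.index = Nat.card G := Subgroup.card_mul_index C
  have e2 : Nat.card Cb * Cb.index = Nat.card (G ⧸ N) := Subgroup.card_mul_index Cb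
  have e3 : Nat.card G = Nat.card (G ⧸ N) * Nat.card N :=
    Subgroup.card_eq_card_quotient_mul_card_subgroup N
  have hCbi : Cb.index ≠ 0 := Subgroup.index_ne_zero_of_finite
  have e4 : m * Nat.card C = Nat.card Cb * Nat.card N := by
    apply Nat.eq_of_mul_eq_mul_right (Nat.pos_of_ne_zero hCbi)
    calc m * Nat.card C * Cb.index = Nat.card C * (m * Cb.index) := by ring
      _ = Nat.card C * C.index := by rw [hm]
      _ = Nat.card (G ⧸ N) * Nat.card N := by rw [e1, e3]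
      _ = Nat.card Cb * Cb.index * Nat.card N := by rw [e2]
      _ = Nat.card Cb * Nat.card N * Cb.index := by ring
  have hm0 : m ≠ 0 := by
    rintro rfl
    rw [zero_mul] at hm
    exact Subgroup.index_ne_zero_of_finite hm
  have hCpos : Nat.card C ≠ 0 := Nat.card_pos.ne'
  have hCbpos : Nat.card Cb ≠ 0 := Nat.card_pos.ne'
  have hNpos : Nat.card N ≠ 0 := Nat.card_pos.ne'
  have e5 : (Nat.card C).factorization p
      = (Nat.card Cb).factorization p + (Nat.card N).factorization p := by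
    have h1 : (m * Nat.card C).factorization p = (Nat.card Cb * Nat.card N).factorization p := by
      rw [e4]
    rw [Nat.factorization_mul hm0 hCpos, Nat.factorization_mul hCbpos hNpos,
      Finsupp.add_apply, Finsupp.add_apply, Nat.factorization_eq_zero_of_not_dvd hpm,
      zero_add] at h1
    exact h1
  -- the image is a `p`-group
  have hPp : IsPGroup p P := IsPGroup.of_card hcard
  have hPbp : IsPGroup p (P.map (QuotientGroup.mk' N)) := hPp.map _
  obtain ⟨k, hk⟩ := IsPGroup.iff_card.mp hPbp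
  rw [hk]
  congr 1
  apply le_antisymm
  · -- `p ^ k ∣ |Cb|`
    have h1 : p ^ k ∣ Nat.card Cb := by
      rw [← hk]
      exact Subgroup.card_dvd_of_le hle
    exact (hp.pow_dvd_iff_le_factorization hCbpos).mp h1
  · -- `|P ⊔ N| = |P̄| |N|`
    have i1 : (P.map (QuotientGroup.mk' N)).index = (P ⊔ N).index := by
      rw [Subgroup.index_map, QuotientGroup.ker_mk',
        MonoidHom.range_eq_top.mpr (QuotientGroup.mk'_surjective N), Subgroup.index_top, mul_one]
    have i2 : Nat.card (P.map (QuotientGroup.mk' N)) * (P.map (QuotientGroup.mk' N)).index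
        = Nat.card (G ⧸ N) := Subgroup.card_mul_index _
    have i3 : Nat.card (P ⊔ N : Subgroup G) * (P ⊔ N).index = Nat.card G :=
      Subgroup.card_mul_index _
    have hidx : (P ⊔ N).index ≠ 0 := Subgroup.index_ne_zero_of_finite
    have i4 : Nat.card (P ⊔ N : Subgroup G) = p ^ k * Nat.card N := by
      apply Nat.eq_of_mul_eq_mul_right (Nat.pos_of_ne_zero hidx)
      rw [i3, e3, ← i2, i1, hk]
      ring
    have i5 : p ^ (Nat.card C).factorization p ∣ p ^ k * Nat.card N := by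
      rw [← i4, ← hcard]
      exact Subgroup.card_dvd_of_le le_sup_left
    have i6 := (hp.pow_dvd_iff_le_factorization
      (mul_ne_zero (pow_ne_zero k hp.ne_zero) hNpos)).mp i5
    rw [Nat.factorization_mul (pow_ne_zero k hp.ne_zero) hNpos, Finsupp.add_apply,
      Nat.Prime.factorization_pow hp, Finsupp.single_eq_same] at i6
    omega

/-- Conjugation commutes with the quotient map on subgroups. -/
theorem map_conj_map_mk (N : Subgroup G) [N.Normal] (P : Subgroup G) (u : G) :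
    (P.map (QuotientGroup.mk' N)).map (MulAut.conj (u : G ⧸ N)).toMonoidHom
      = (P.map (MulAut.conj u).toMonoidHom).map (QuotientGroup.mk' N) := by
  rw [Subgroup.map_map, Subgroup.map_map]
  congr 1

/-- For a defect class `y` of `B` and a character `χ` of `G ⧸ N` whose inflation lies in `B`: the
central character of `χ` does not vanish at the image of `y` modulo the local ideal, and
subgroups of Sylow order of `C_G(y)` map onto subgroups of Sylow order of the centralizer of the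
image. -/
theorem quot_defectClass_facts [Finite G] {p : ℕ} [Fact p.Prime] {M : Ideal AlgInt}
    (hM : IsPModular p M) (N : Subgroup G) [N.Normal] (ψ₀ : IrrCharacter G) (y : G)
    (hy : IsDefectClass M (blockOf M (ψ₀ : G → ℂ)) y) (χ : IrrCharacter (G ⧸ N))
    (hχ : Cfsg.Agent.H82.inflate N χ ∈ blockOf M (ψ₀ : G → ℂ)) :
    ¬ MemLocalIdeal M (centralChar (χ : G ⧸ N → ℂ) (y : G ⧸ N)) ∧
    ∀ P : Subgroup G, P ≤ Subgroup.centralizer ({y} : Set G) →
      Nat.card P = p ^ (Nat.card (Subgroup.centralizer ({y} : Set G))).factorization p →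
      (P.map (QuotientGroup.mk' N)) ≤ Subgroup.centralizer ({(y : G ⧸ N)} : Set (G ⧸ N)) ∧
      Nat.card (P.map (QuotientGroup.mk' N))
        = p ^ (Nat.card (Subgroup.centralizer ({(y : G ⧸ N)} : Set (G ⧸ N)))).factorization p := by
  classical
  letI : Fintype G := Fintype.ofFinite G
  letI : Fintype (G ⧸ N) := Fintype.ofFinite _
  have hMp := isPrime_of_isPModular hM
  obtain ⟨m, hm1, hm2⟩ := centralChar_inflate N χ y
  have h1 : ¬ MemLocalIdeal M (centralChar ((Cfsg.Agent.H82.inflate N χ : IrrCharacter G) : G → ℂ) y) :=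
    hy.2.2 _ hχ
  rw [hm2] at h1
  have hpm : ¬ p ∣ m := fun hd =>
    h1 (memLocalIdeal_mul_right hMp ((memLocalIdeal_natCast_iff hM m).mpr hd)
      (centralChar_memLocalRing hMp χ _))
  refine ⟨fun hd => h1 (memLocalIdeal_mul_left hMp (memLocalRing_natCast hMp m) hd), ?_⟩
  intro P hP hcard
  exact card_map_mk_centralizer N y hm1 hpm P hP hcard

/-- A defect group of a block of `G ⧸ N` dominated by the block `B` of `G` is contained in the
image of a defect group of `B`. -/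
theorem exists_defectGroup_map_ge [Finite G] {p : ℕ} [Fact p.Prime] {M : Ideal AlgInt}
    (hM : IsPModular p M) (N : Subgroup G) [N.Normal] (ψ₀ : IrrCharacter G)
    (χ₀ : IrrCharacter (G ⧸ N))
    (hχ₀ : Cfsg.Agent.H82.inflate N χ₀ ∈ blockOf M (ψ₀ : G → ℂ))
    (Dbar : Subgroup (G ⧸ N)) (hDbar : IsDefectGroup p M (blockOf M (χ₀ : G ⧸ N → ℂ)) Dbar) :
    ∃ P : Subgroup G, IsDefectGroup p M (blockOf M (ψ₀ : G → ℂ)) P ∧
      Dbar ≤ P.map (QuotientGroup.mk' N) := by
  classical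
  letI : Fintype G := Fintype.ofFinite G
  letI : Fintype (G ⧸ N) := Fintype.ofFinite _
  have hMp := isPrime_of_isPModular hM
  obtain ⟨y, hy⟩ := Cfsg.Agent.S0906.result p M hM (blockOf M (ψ₀ : G → ℂ)) ⟨ψ₀, rfl⟩
  obtain ⟨hω, hSyl⟩ := quot_defectClass_facts hM N ψ₀ y hy χ₀ hχ₀
  obtain ⟨S₁⟩ : Nonempty (Sylow p (Subgroup.centralizer ({y} : Set G))) := inferInstance
  obtain ⟨P₁, hP₁⟩ : ∃ P₁ : Subgroup G, P₁ = (S₁ : Subgroup (Subgroup.centralizer ({y} : Set G))).map
      (Subgroup.centralizer ({y} : Set G)).subtype := ⟨_, rfl⟩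
  have hP₁d : IsDefectGroup p M (blockOf M (ψ₀ : G → ℂ)) P₁ := ⟨y, hy, S₁, hP₁⟩
  have hP₁C : P₁ ≤ Subgroup.centralizer ({y} : Set G) := by
    rw [hP₁]; exact Subgroup.map_subtype_le _
  have hP₁card : Nat.card P₁
      = p ^ (Nat.card (Subgroup.centralizer ({y} : Set G))).factorization p := by
    rw [hP₁, Subgroup.card_map_of_injective (Subgroup.subtype_injective _)]
    exact S₁.card_eq_multiplicity
  obtain ⟨hle, hcb⟩ := hSyl P₁ hP₁C hP₁card
  have hc : Nat.card ((P₁.map (QuotientGroup.mk' N)).subgroupOf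
      (Subgroup.centralizer ({(y : G ⧸ N)} : Set (G ⧸ N))))
      = p ^ (Nat.card (Subgroup.centralizer ({(y : G ⧸ N)} : Set (G ⧸ N)))).factorization p := by
    rw [Nat.card_congr (Subgroup.subgroupOfEquivOfLe hle).toEquiv]
    exact hcb
  obtain ⟨Sb, hSb⟩ : ∃ Sb : Sylow p (Subgroup.centralizer ({(y : G ⧸ N)} : Set (G ⧸ N))),
      (Sb : Subgroup (Subgroup.centralizer ({(y : G ⧸ N)} : Set (G ⧸ N)))).map
        (Subgroup.centralizer ({(y : G ⧸ N)} : Set (G ⧸ N))).subtype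
        = P₁.map (QuotientGroup.mk' N) := by
    refine ⟨Sylow.ofCard _ hc, ?_⟩
    rw [Sylow.coe_ofCard]
    exact Subgroup.map_subgroupOf_eq_of_le hle
  obtain ⟨gb, hgb, Pb, rfl⟩ := hDbar
  have hDp : IsPGroup p ((Pb : Subgroup (Subgroup.centralizer ({gb} : Set (G ⧸ N)))).map
      (Subgroup.centralizer ({gb} : Set (G ⧸ N))).subtype) := Pb.isPGroup'.map _
  obtain ⟨x₁, hx₁, hQx⟩ := exists_conj_centralized_of_block hM χ₀ (y : G ⧸ N) gb hω hgb.2.1 _
    hDp (Subgroup.map_subtype_le _)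
  obtain ⟨ub, hub⟩ := exists_le_conj_sylow_centralizer _ hDp (y : G ⧸ N) x₁ hx₁ hQx Sb
  rw [hSb] at hub
  obtain ⟨u, rfl⟩ := QuotientGroup.mk_surjective ub
  refine ⟨P₁.map (MulAut.conj u).toMonoidHom, isDefectGroup_map_conj hP₁d u, ?_⟩
  rw [← map_conj_map_mk]
  exact hub

/-- A sum over a union of blocks lies in the local ideal if each block sum does. -/
theorem memLocalIdeal_finsum_of_blocks {H : Type u} [Group H] [Finite H] {M : Ideal AlgInt}
    (hM : M.IsPrime) (β : Set (IrrCharacter H)) (g : IrrCharacter H → ℂ)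
    (hβ : ∀ ψ ψ' : IrrCharacter H, ψ ∈ β → ψ' ∈ blockOf M (ψ : H → ℂ) → ψ' ∈ β)
    (h0 : ∀ ψ₁ ∈ β, MemLocalIdeal M (∑ᶠ ψ ∈ blockOf M (ψ₁ : H → ℂ), g ψ)) :
    MemLocalIdeal M (∑ᶠ ψ ∈ β, g ψ) := by
  classical
  letI := Fintype.ofFinite H
  letI := fintypeIrr H
  rw [finsum_mem_irr, ← Finset.sum_filter]
  obtain ⟨S, hS⟩ : ∃ S : Finset (IrrCharacter H),
      S = Finset.univ.filter (fun ψ : IrrCharacter H => ψ ∈ β) := ⟨_, rfl⟩
  rw [← hS]
  rw [← Finset.sum_fiberwise_of_maps_to (g := fun ψ : IrrCharacter H => blockOf M (ψ : H → ℂ))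
    (t := S.image (fun ψ : IrrCharacter H => blockOf M (ψ : H → ℂ)))
    (fun ψ hψ => Finset.mem_image_of_mem _ hψ)]
  apply memLocalIdeal_sum hM
  intro b hb
  obtain ⟨ψ₁, hψ₁, rfl⟩ := Finset.mem_image.mp hb
  have hψ₁β : ψ₁ ∈ β := by
    rw [hS] at hψ₁
    exact (Finset.mem_filter.mp hψ₁).2
  have hfil : S.filter (fun ψ : IrrCharacter H =>
      blockOf M (ψ : H → ℂ) = blockOf M (ψ₁ : H → ℂ)) =
      Finset.univ.filter (fun ψ : IrrCharacter H => ψ ∈ blockOf M (ψ₁ : H → ℂ)) := by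
    ext ψ
    rw [hS]
    simp only [Finset.mem_filter, Finset.mem_univ, true_and]
    constructor
    · rintro ⟨_, h⟩
      rw [← h]
      exact Cfsg.Agent.H80.mem_blockOf_self hM ψ
    · intro h
      exact ⟨hβ ψ₁ ψ hψ₁β h, Cfsg.Agent.H80.blockOf_eq_of_mem hM h⟩
  rw [hfil, Finset.sum_filter, ← finsum_mem_irr]
  exact h0 ψ₁ hψ₁β

/-- For a normal `p`-subgroup `N` and a defect class `y` of the block `B` of `G`, some block of
`G ⧸ N` dominated by `B` has an idempotent coefficient outside the local ideal at the image of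
`y`. -/
theorem exists_dominated_defectClass [Finite G] {p : ℕ} [Fact p.Prime] {M : Ideal AlgInt}
    (hM : IsPModular p M) (N : Subgroup G) [N.Normal] (hN : IsPGroup p N) (ψ₀ : IrrCharacter G)
    (y : G) (hy : IsDefectClass M (blockOf M (ψ₀ : G → ℂ)) y) :
    ∃ χ₀ : IrrCharacter (G ⧸ N), Cfsg.Agent.H82.inflate N χ₀ ∈ blockOf M (ψ₀ : G → ℂ) ∧
      ¬ MemLocalIdeal M (blockCoeff (blockOf M (χ₀ : G ⧸ N → ℂ)) (y : G ⧸ N)) := by
  classical
  letI : Fintype G := Fintype.ofFinite G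
  letI : Fintype (G ⧸ N) := Fintype.ofFinite _
  letI := fintypeIrr G
  letI := fintypeIrr (G ⧸ N)
  have hMp := isPrime_of_isPModular hM
  by_contra hno
  push Not at hno
  apply hy.2.1
  have hyreg : ¬ p ∣ orderOf y := not_dvd_orderOf_of_isDefectClass hM ψ₀ y hy
  have hyN : y ∈ Subgroup.centralizer (N : Set G) := by
    by_contra hnot
    exact hy.2.2 ψ₀ (Cfsg.Agent.H80.mem_blockOf_self hMp ψ₀)
      (Cfsg.Agent.H84.centralChar_memLocalIdeal_of_not_mem_centralizer hM N hN y hnot ψ₀)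
  rw [blockCoeff_eq_sum_ker hM N hN ψ₀ y hyreg hyN]
  obtain ⟨β, hβdef⟩ : ∃ β : Set (IrrCharacter (G ⧸ N)),
      β = {χ | Cfsg.Agent.H82.inflate N χ ∈ blockOf M (ψ₀ : G → ℂ)} := ⟨_, rfl⟩
  have hβ : ∀ ψ ψ' : IrrCharacter (G ⧸ N), ψ ∈ β → ψ' ∈ blockOf M (ψ : G ⧸ N → ℂ) → ψ' ∈ β := by
    intro ψ ψ' hψ hψ'
    rw [hβdef] at hψ ⊢
    exact Cfsg.Agent.H80.sameBlock_trans hMp hψ (Cfsg.Agent.H84.sameBlock_comp_mk hMp N _ _ hψ')
  have h0 : ∀ χ₁ ∈ β, MemLocalIdeal M (∑ᶠ χ ∈ blockOf M (χ₁ : G ⧸ N → ℂ),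
      (Nat.card (G ⧸ N) : ℂ)⁻¹ *
        ((χ : G ⧸ N → ℂ) 1 * conj ((χ : G ⧸ N → ℂ) (y : G ⧸ N)))) := by
    intro χ₁ hχ₁
    have h1 := hno χ₁ (by rw [hβdef] at hχ₁; exact hχ₁)
    rw [blockCoeff_eq, Finset.mul_sum] at h1
    rw [finsum_mem_irr]
    convert h1 using 1
    apply Finset.sum_congr rfl
    intro χ _
    split_ifs
    · rfl
    · rw [mul_zero]
  have hmain := memLocalIdeal_finsum_of_blocks hMp β _ hβ h0
  rw [finsum_mem_irr] at hmain
  have hsum : ∀ g : IrrCharacter G → ℂ,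
      (∀ ψ : IrrCharacter G, ¬ (∀ x ∈ N, (ψ : G → ℂ) x = (ψ : G → ℂ) 1) → g ψ = 0) →
      ∑ ψ : IrrCharacter G, g ψ
        = ∑ χ : IrrCharacter (G ⧸ N), g (Cfsg.Agent.H82.inflate N χ) := by
    intro g hg
    symm
    apply Finset.sum_of_injOn (Cfsg.Agent.H82.inflate N)
    · exact (Cfsg.Agent.H82.inflate_injective N).injOn
    · intro χ _
      exact Finset.mem_coe.mpr (Finset.mem_univ _)
    · intro ψ _ hψ
      apply hg
      intro hK
      obtain ⟨χ', h'⟩ := Cfsg.Agent.H82.exists_deflate N ψ hK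
      exact hψ ⟨χ', Finset.mem_coe.mpr (Finset.mem_univ _), h'⟩
    · intro χ _
      rfl
  rw [hsum]
  swap
  · intro ψ hψ
    exact if_neg (fun h => hψ h.2)
  rw [Finset.mul_sum]
  have hcardG : (Nat.card G : ℂ) = (Nat.card (G ⧸ N) : ℂ) * (Nat.card N : ℂ) := by
    exact_mod_cast Subgroup.card_eq_card_quotient_mul_card_subgroup N
  have hN0 : (Nat.card N : ℂ) ≠ 0 := by exact_mod_cast (Nat.card_pos (α := N)).ne'
  have hQ0 : (Nat.card (G ⧸ N) : ℂ) ≠ 0 := by exact_mod_cast (Nat.card_pos (α := G ⧸ N)).ne'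
  convert hmain using 1
  apply Finset.sum_congr rfl
  intro χ _
  by_cases hχ : Cfsg.Agent.H82.inflate N χ ∈ blockOf M (ψ₀ : G → ℂ)
  · have hχβ : χ ∈ β := by rw [hβdef]; exact hχ
    rw [if_pos hχβ, if_pos ⟨hχ, Cfsg.Agent.H82.inflate_mem N χ⟩]
    have e1 : ((Cfsg.Agent.H82.inflate N χ : IrrCharacter G) : G → ℂ) 1
        = (χ : G ⧸ N → ℂ) 1 := rfl
    have e2 : ((Cfsg.Agent.H82.inflate N χ : IrrCharacter G) : G → ℂ) y⁻¹
        = conj ((χ : G ⧸ N → ℂ) (y : G ⧸ N)) := by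
      rw [← Cfsg.Agent.H81.irr_inv χ (y : G ⧸ N)]
      rfl
    rw [e1, e2, hcardG]
    field_simp
  · have hχβ : χ ∉ β := by rw [hβdef]; exact hχ
    rw [if_neg hχβ, if_neg (fun h => hχ h.1), mul_zero]

/-- For a normal `p`-subgroup `N`, every block `B` of `G` dominates a block of `G ⧸ N` whose
defect groups are exactly the images of the defect groups of `B`. -/
theorem exists_dominated_block [Finite G] {p : ℕ} [Fact p.Prime] {M : Ideal AlgInt}
    (hM : IsPModular p M) (N : Subgroup G) [N.Normal] (hN : IsPGroup p N) (ψ₀ : IrrCharacter G) :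
    ∃ χ₀ : IrrCharacter (G ⧸ N), Cfsg.Agent.H82.inflate N χ₀ ∈ blockOf M (ψ₀ : G → ℂ) ∧
      ∀ Dbar : Subgroup (G ⧸ N), IsDefectGroup p M (blockOf M (χ₀ : G ⧸ N → ℂ)) Dbar ↔
        ∃ P : Subgroup G, IsDefectGroup p M (blockOf M (ψ₀ : G → ℂ)) P ∧
          Dbar = P.map (QuotientGroup.mk' N) := by
  classical
  letI : Fintype G := Fintype.ofFinite G
  letI : Fintype (G ⧸ N) := Fintype.ofFinite _
  have hMp := isPrime_of_isPModular hM
  obtain ⟨y, hy⟩ := Cfsg.Agent.S0906.result p M hM (blockOf M (ψ₀ : G → ℂ)) ⟨ψ₀, rfl⟩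
  obtain ⟨χ₀, hχ₀, hcoef⟩ := exists_dominated_defectClass hM N hN ψ₀ y hy
  refine ⟨χ₀, hχ₀, ?_⟩
  have hdom : ∀ χ ∈ blockOf M (χ₀ : G ⧸ N → ℂ),
      Cfsg.Agent.H82.inflate N χ ∈ blockOf M (ψ₀ : G → ℂ) := fun χ hχ =>
    Cfsg.Agent.H80.sameBlock_trans hMp hχ₀ (Cfsg.Agent.H84.sameBlock_comp_mk hMp N _ _ hχ)
  have hyb : IsDefectClass M (blockOf M (χ₀ : G ⧸ N → ℂ)) (y : G ⧸ N) :=
    ⟨blockCoeff_memLocalRing hMp χ₀ _, hcoef,
      fun χ hχ => (quot_defectClass_facts hM N ψ₀ y hy χ (hdom χ hχ)).1⟩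
  obtain ⟨S₁⟩ : Nonempty (Sylow p (Subgroup.centralizer ({y} : Set G))) := inferInstance
  obtain ⟨P₁, hP₁⟩ : ∃ P₁ : Subgroup G, P₁ = (S₁ : Subgroup (Subgroup.centralizer ({y} : Set G))).map
      (Subgroup.centralizer ({y} : Set G)).subtype := ⟨_, rfl⟩
  have hP₁d : IsDefectGroup p M (blockOf M (ψ₀ : G → ℂ)) P₁ := ⟨y, hy, S₁, hP₁⟩
  have hP₁C : P₁ ≤ Subgroup.centralizer ({y} : Set G) := by
    rw [hP₁]; exact Subgroup.map_subtype_le _
  have hP₁card : Nat.card P₁
      = p ^ (Nat.card (Subgroup.centralizer ({y} : Set G))).factorization p := by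
    rw [hP₁, Subgroup.card_map_of_injective (Subgroup.subtype_injective _)]
    exact S₁.card_eq_multiplicity
  obtain ⟨hle, hcb⟩ := (quot_defectClass_facts hM N ψ₀ y hy χ₀ hχ₀).2 P₁ hP₁C hP₁card
  have hPb : IsDefectGroup p M (blockOf M (χ₀ : G ⧸ N → ℂ)) (P₁.map (QuotientGroup.mk' N)) :=
    Cfsg.Agent.H79.isDefectGroup_of_card _ (y : G ⧸ N) hyb _ hle hcb
  intro Dbar
  constructor
  · intro hD
    obtain ⟨x, hx⟩ := Cfsg.Agent.H80.isDefectGroup_conj_eq p hM ⟨χ₀, rfl⟩ hPb hD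
    obtain ⟨u, rfl⟩ := QuotientGroup.mk_surjective x
    exact ⟨P₁.map (MulAut.conj u).toMonoidHom, isDefectGroup_map_conj hP₁d u,
      by rw [← hx, map_conj_map_mk]⟩
  · rintro ⟨P, hP, rfl⟩
    obtain ⟨u, hu⟩ := Cfsg.Agent.H80.isDefectGroup_conj_eq p hM ⟨ψ₀, rfl⟩ hP₁d hP
    rw [← hu, ← map_conj_map_mk]
    exact isDefectGroup_map_conj hPb (u : G ⧸ N)

end QuotDefect

end Cfsg.Agent.H81
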