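import Mathlib
import Cfsg.Prelude.Def_Blocks
import Cfsg.Prelude.Def_BlockRank
import Cfsg.Agent.H81.DefZero

set_option autoImplicit false
set_option linter.style.haveILetI false
set_option linter.unusedSectionVars false

/-!
# helper81: the rank `l(B)` of a block as a trace
-/

namespace Cfsg.Agent.H81

open Cfsg Cfsg.Agent.H20
open scoped ComplexConjugate

universe u

variable {G : Type u} [Group G] [Fintype G]

/-- The span of the members of a set of irreducible characters. -/
noncomputable def blockSpan (B : Set (IrrCharacter G)) : Submodule ℂ (G → ℂ) :=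
  Submodule.span ℂ (Set.range fun χ : B => ((χ : IrrCharacter G) : G → ℂ))

/-- The span of the `p`-regular parts of the members of a set of irreducible characters. -/
noncomputable def regSpan (p : ℕ) (B : Set (IrrCharacter G)) : Submodule ℂ (G → ℂ) :=
  Submodule.span ℂ ((fun χ : IrrCharacter G => pRegularPart p (χ : G → ℂ)) '' B)

theorem blockRank_eq_finrank (p : ℕ) (B : Set (IrrCharacter G)) :
    blockRank p B = Module.finrank ℂ (regSpan p B) := rfl

theorem pRegularPart_mem_blockSpan {p : ℕ} {M : Ideal AlgInt} (hM : IsPModular p M)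
    (χ₀ : IrrCharacter G) (χ : IrrCharacter G) (hχ : χ ∈ blockOf M (χ₀ : G → ℂ)) :
    pRegularPart p (χ : G → ℂ) ∈ blockSpan (blockOf M (χ₀ : G → ℂ)) := by
  classical
  letI := Cfsg.Agent.H4.fintypeIrr G
  rw [pRegularPart_expansion hM χ₀ χ hχ]
  apply Submodule.sum_mem
  intro ψ _
  split_ifs with hψ
  · exact Submodule.smul_mem _ _ (Submodule.subset_span ⟨⟨ψ, hψ⟩, rfl⟩)
  · exact Submodule.zero_mem _

theorem regSpan_le_blockSpan {p : ℕ} {M : Ideal AlgInt} (hM : IsPModular p M)
    (χ₀ : IrrCharacter G) :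
    regSpan p (blockOf M (χ₀ : G → ℂ)) ≤ blockSpan (blockOf M (χ₀ : G → ℂ)) := by
  apply Submodule.span_le.mpr
  rintro _ ⟨χ, hχ, rfl⟩
  exact pRegularPart_mem_blockSpan hM χ₀ χ hχ

theorem finrank_blockSpan (B : Set (IrrCharacter G)) :
    Module.finrank ℂ (blockSpan B) = Nat.card B := by
  classical
  letI := Cfsg.Agent.H4.fintypeIrr G
  have hli : LinearIndependent ℂ (fun χ : B => ((χ : IrrCharacter G) : G → ℂ)) :=
    (Cfsg.Agent.H4.irr_linearIndependent (G := G)).comp Subtype.val Subtype.val_injective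
  rw [blockSpan, finrank_span_eq_card hli, Nat.card_eq_fintype_card]

theorem vanish_of_mem_regSpan (p : ℕ) (B : Set (IrrCharacter G)) (f : G → ℂ)
    (hf : f ∈ regSpan p B) (y : G) (hy : p ∣ orderOf y) : f y = 0 := by
  have h1 : regSpan p B ≤ LinearMap.ker (LinearMap.proj (R := ℂ) (φ := fun _ : G => ℂ) y) := by
    apply Submodule.span_le.mpr
    rintro _ ⟨χ, _, rfl⟩
    exact pRegularPart_of_dvd p _ hy
  exact h1 hf

/-- The rank of a block is the trace of the `p`-regular projection on the span of the block. -/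
theorem blockRank_eq_sum {p : ℕ} {M : Ideal AlgInt} (hM : IsPModular p M)
    (χ₀ : IrrCharacter G) [Fintype (IrrCharacter G)]
    [DecidablePred (· ∈ blockOf M (χ₀ : G → ℂ))] :
    (blockRank p (blockOf M (χ₀ : G → ℂ)) : ℂ) =
      ∑ χ : IrrCharacter G, if χ ∈ blockOf M (χ₀ : G → ℂ) then
        classInner (pRegularPart p (χ : G → ℂ)) (χ : G → ℂ) else 0 := by
  classical
  obtain ⟨B, hB⟩ : ∃ B : Set (IrrCharacter G), B = blockOf M (χ₀ : G → ℂ) := ⟨_, rfl⟩
  simp only [← hB]
  let v : B → (G → ℂ) := fun χ => ((χ : IrrCharacter G) : G → ℂ)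
  have hli : LinearIndependent ℂ v :=
    (Cfsg.Agent.H4.irr_linearIndependent (G := G)).comp Subtype.val Subtype.val_injective
  let V : Submodule ℂ (G → ℂ) := blockSpan B
  let b : Module.Basis B ℂ V := Module.Basis.span hli
  have hbv : ∀ i : B, ((b i : V) : G → ℂ) = v i := fun i =>
    congrArg Subtype.val (Module.Basis.span_apply hli i)
  have hRV0 : ∀ χ : IrrCharacter G, χ ∈ B → pRegularPart p (χ : G → ℂ) ∈ V := by
    intro χ hχ
    rw [hB] at hχ
    have := pRegularPart_mem_blockSpan hM χ₀ χ hχ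
    rwa [← hB] at this
  have hRV : ∀ f ∈ V, pRegL G p f ∈ V := by
    intro f hf
    have h1 : V ≤ V.comap (pRegL G p) := by
      apply Submodule.span_le.mpr
      rintro _ ⟨χ, rfl⟩
      exact hRV0 χ.1 χ.2
    exact h1 hf
  let R' : V →ₗ[ℂ] V := (pRegL G p).restrict hRV
  let W : Submodule ℂ (G → ℂ) := regSpan p B
  have hWV : W ≤ V := by
    apply Submodule.span_le.mpr
    rintro _ ⟨χ, hχ, rfl⟩
    exact hRV0 χ hχ
  have hfixW : ∀ w ∈ W, pRegL G p w = w := by
    intro w hw
    have h1 : W ≤ LinearMap.eqLocus (pRegL G p) LinearMap.id := by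
      apply Submodule.span_le.mpr
      rintro _ ⟨χ, hχ, rfl⟩
      exact pRegularPart_idem p _
    exact h1 hw
  have hmapW : ∀ f ∈ V, pRegL G p f ∈ W := by
    intro f hf
    have h1 : V ≤ W.comap (pRegL G p) := by
      apply Submodule.span_le.mpr
      rintro _ ⟨χ, rfl⟩
      exact Submodule.subset_span ⟨χ.1, χ.2, rfl⟩
    exact h1 hf
  have hproj : LinearMap.IsProj (W.comap V.subtype) R' :=
    ⟨fun x => hmapW x.1 x.2, fun x hx => Subtype.ext (hfixW x.1 hx)⟩
  haveI : Module.Free ℂ ↥(Submodule.comap V.subtype W) :=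
    @Module.Free.of_divisionRing ℂ ↥(Submodule.comap V.subtype W) _ _ _
  haveI : Module.Free ℂ ↥(LinearMap.ker R') :=
    @Module.Free.of_divisionRing ℂ ↥(LinearMap.ker R') _ _ _
  have htr : LinearMap.trace ℂ V R' = (Module.finrank ℂ (W.comap V.subtype) : ℂ) := hproj.trace
  have hfr : Module.finrank ℂ (W.comap V.subtype) = blockRank p B :=
    (Submodule.comapSubtypeEquivOfLe hWV).finrank_eq
  rw [← hfr, ← htr, LinearMap.trace_eq_matrix_trace ℂ b, Matrix.trace]
  simp only [Matrix.diag_apply, LinearMap.toMatrix_apply]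
  have hdiag : ∀ i : B, b.repr (R' (b i)) i =
      classInner (pRegularPart p (v i)) (v i) := by
    intro i
    have h1 := b.sum_repr (R' (b i))
    have h2 := congrArg (Subtype.val) h1
    rw [Submodule.coe_sum] at h2
    simp only [Submodule.coe_smul, hbv] at h2
    have h3 : ((R' (b i) : V) : G → ℂ) = pRegularPart p (v i) := by
      show pRegL G p (b i : G → ℂ) = _
      rw [hbv]; rfl
    rw [h3] at h2
    rw [← h2, Cfsg.Agent.H4.classInner_sum_left]
    simp only [Cfsg.Agent.H4.classInner_smul_left]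
    rw [Finset.sum_eq_single i]
    · rw [Cfsg.Agent.H4.irr_inner_self, mul_one]
    · intro j _ hj
      rw [Cfsg.Agent.H4.irr_inner_ne (fun e => hj (Subtype.ext e)), mul_zero]
    · intro h; exact absurd (Finset.mem_univ _) h
  rw [Finset.sum_congr rfl (fun i _ => hdiag i), ← Finset.sum_filter]
  exact (Finset.sum_subtype (Finset.univ.filter (· ∈ B)) (by simp)
    (fun χ : IrrCharacter G => classInner (pRegularPart p (χ : G → ℂ)) (χ : G → ℂ))).symm

end Cfsg.Agent.H81
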