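import Mathlib

set_option autoImplicit false

/-!
# S0435 / S0434 arithmetic pieces: character values at an involution and at a real element of
order 3 in a simple group of order 7920
-/

namespace Cfsg.Agent.H81.M11

set_option maxRecDepth 100000 in
set_option synthInstance.maxHeartbeats 0 in
set_option synthInstance.maxSize 100000 in
theorem invol_aux : ∀ a' : ℕ, a' < 6 → ∀ b' : ℕ, b' < 6 → ∀ c' : ℕ, c' < 6 → ∀ s' : ℕ, s' < 9 →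
    720 - 72 * ((4 * (a' : ℤ) - 10) ^ 2 + (4 * (b' : ℤ) - 10) ^ 2 + (4 * (c' : ℤ) - 10) ^ 2)
      + 16 * ((4 * (s' : ℤ) - 16) - 1 + (4 * (a' : ℤ) - 10) + (4 * (b' : ℤ) - 10)
        + (4 * (c' : ℤ) - 10)) ^ 2 - 45 * (4 * (s' : ℤ) - 16) ^ 2 = 0 →
    (s' = 4 ∧ a' + b' + c' = 7 ∧
      (4 * (a' : ℤ) - 10) ^ 2 + (4 * (b' : ℤ) - 10) ^ 2 + (4 * (c' : ℤ) - 10) ^ 2 = 12) ∨
    (s' = 8 ∧ a' = 5 ∧ b' = 5 ∧ c' = 5) := by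
  decide +kernel

theorem invol_arith (a b c u s w d f : ℤ) (N : ℕ)
    (ha : a ≡ 2 [ZMOD 4]) (hb : b ≡ 2 [ZMOD 4]) (hc : c ≡ 2 [ZMOD 4]) (hu : u ≡ 3 [ZMOD 4])
    (hs : s ≡ 0 [ZMOD 4]) (hw : w ≡ 0 [ZMOD 4]) (hd : d ≡ 1 [ZMOD 4]) (hf : f ≡ 3 [ZMOD 4])
    (ba : |a| ≤ 10) (bb : |b| ≤ 10) (bc : |c| ≤ 10) (bu : |u| ≤ 11) (bs : |s| ≤ 16)
    (bw : |w| ≤ 44) (bd : |d| ≤ 45) (bf : |f| ≤ 55)
    (h11 : s = 1 - a - b - c + d) (h5 : 1 + u + 2 * s - w = 0)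
    (h1 : 1 + 10 * (a + b + c) + 11 * u + 32 * s + 44 * w + 45 * d + 55 * f = 0)
    (hsc : 720 - 72 * (a ^ 2 + b ^ 2 + c ^ 2) + 16 * d ^ 2 - 45 * s ^ 2 = 0)
    (hN : (N : ℤ) = 1 + a ^ 2 + b ^ 2 + c ^ 2 + u ^ 2 + 2 * s ^ 2 + w ^ 2 + d ^ 2 + f ^ 2)
    (hdvd : N ∣ 7920) : N = 48 := by
  unfold Int.ModEq at ha hb hc hu hs hw hd hf
  rw [abs_le] at ba bb bc bu bs bw bd bf
  obtain ⟨a', ha', rfl⟩ : ∃ a' : ℕ, a' < 6 ∧ a = 4 * (a' : ℤ) - 10 :=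
    ⟨((a + 10) / 4).toNat, by omega, by omega⟩
  obtain ⟨b', hb', rfl⟩ : ∃ b' : ℕ, b' < 6 ∧ b = 4 * (b' : ℤ) - 10 :=
    ⟨((b + 10) / 4).toNat, by omega, by omega⟩
  obtain ⟨c', hc', rfl⟩ : ∃ c' : ℕ, c' < 6 ∧ c = 4 * (c' : ℤ) - 10 :=
    ⟨((c + 10) / 4).toNat, by omega, by omega⟩
  obtain ⟨s', hs', rfl⟩ : ∃ s' : ℕ, s' < 9 ∧ s = 4 * (s' : ℤ) - 16 :=
    ⟨((s + 16) / 4).toNat, by omega, by omega⟩
  obtain rfl : d = (4 * (s' : ℤ) - 16) - 1 + (4 * (a' : ℤ) - 10) + (4 * (b' : ℤ) - 10)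
        + (4 * (c' : ℤ) - 10) := by omega
  rcases invol_aux a' ha' b' hb' c' hc' s' hs' hsc with ⟨rfl, hsum, hsq⟩ | ⟨rfl, rfl, rfl, rfl⟩
  · -- the genuine case
    have hw' : w = 1 + u := by omega
    have hf' : f = 2 - u := by omega
    subst hw' hf'
    have hu' : u = -9 ∨ u = -5 ∨ u = -1 ∨ u = 3 ∨ u = 7 ∨ u = 11 := by omega
    have hN' : (N : ℤ) = 3 * u ^ 2 - 2 * u + 27 := by
      have e : (4 * ((4 : ℕ) : ℤ) - 16 - 1 + (4 * (a' : ℤ) - 10) + (4 * (b' : ℤ) - 10)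
          + (4 * (c' : ℤ) - 10)) = -3 := by push_cast; omega
      rw [e] at hN
      push_cast at hN
      linear_combination hN + hsq
    rcases hu' with rfl | rfl | rfl | rfl | rfl | rfl
    · have : N = 288 := by omega
      subst this; norm_num at hdvd
    · have : N = 112 := by omega
      subst this; norm_num at hdvd
    · have : N = 32 := by omega
      subst this; norm_num at hdvd
    · omega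
    · have : N = 160 := by omega
      subst this; norm_num at hdvd
    · have : N = 368 := by omega
      subst this; norm_num at hdvd
  · -- the trivial solution is excluded by the bounds
    exfalso
    push_cast at h1 h5 bf bw
    omega

set_option maxRecDepth 100000 in
set_option synthInstance.maxHeartbeats 0 in
set_option synthInstance.maxSize 100000 in
theorem real3_aux : ∀ a' : ℕ, a' < 8 → ∀ b' : ℕ, b' < 8 → ∀ c' : ℕ, c' < 8 →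
    (3 * (a' : ℤ) - 11) ^ 2 + (3 * (b' : ℤ) - 11) ^ 2 + (3 * (c' : ℤ) - 11) ^ 2 ≤ 143 →
    ∀ u' : ℕ, u' < 8 → ∀ s' : ℕ, s' < 6 →
    (144 : ℤ) % (1 + (3 * (a' : ℤ) - 11) ^ 2 + (3 * (b' : ℤ) - 11) ^ 2 + (3 * (c' : ℤ) - 11) ^ 2
      + (3 * (u' : ℤ) - 10) ^ 2 + 2 * (3 * (s' : ℤ) - 8) ^ 2
      + (1 + (3 * (u' : ℤ) - 10) + 2 * (3 * (s' : ℤ) - 8)) ^ 2
      + ((3 * (s' : ℤ) - 8) - 1 + (3 * (a' : ℤ) - 11) + (3 * (b' : ℤ) - 11)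
          + (3 * (c' : ℤ) - 11)) ^ 2
      + (-((3 * (a' : ℤ) - 11) + (3 * (b' : ℤ) - 11) + (3 * (c' : ℤ) - 11))
          - (3 * (u' : ℤ) - 10) - 3 * (3 * (s' : ℤ) - 8)) ^ 2) = 0 →
    (((7920 / (1 + (3 * (a' : ℤ) - 11) ^ 2 + (3 * (b' : ℤ) - 11) ^ 2
      + (3 * (c' : ℤ) - 11) ^ 2
      + (3 * (u' : ℤ) - 10) ^ 2 + 2 * (3 * (s' : ℤ) - 8) ^ 2
      + (1 + (3 * (u' : ℤ) - 10) + 2 * (3 * (s' : ℤ) - 8)) ^ 2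
      + ((3 * (s' : ℤ) - 8) - 1 + (3 * (a' : ℤ) - 11) + (3 * (b' : ℤ) - 11)
          + (3 * (c' : ℤ) - 11)) ^ 2
      + (-((3 * (a' : ℤ) - 11) + (3 * (b' : ℤ) - 11) + (3 * (c' : ℤ) - 11))
          - (3 * (u' : ℤ) - 10) - 3 * (3 * (s' : ℤ) - 8)) ^ 2).toNat : ℕ) : ℤ)
        * (3 * (s' : ℤ) - 8)) % 16 = 0 →
    a' = 4 ∧ b' = 4 ∧ c' = 4 ∧ u' = 4 ∧ s' = 2 := by
  decide +kernel

theorem sq_bound (x : ℤ) (h : x ^ 2 ≤ 143) : -11 ≤ x ∧ x ≤ 11 := by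
  constructor <;> nlinarith

theorem sq_bound' (x : ℤ) (h : 2 * x ^ 2 ≤ 143) : -8 ≤ x ∧ x ≤ 8 := by
  constructor <;> nlinarith

theorem real3_arith (a b c u s w d f : ℤ) (N : ℕ)
    (ha : a ≡ 1 [ZMOD 3]) (hb : b ≡ 1 [ZMOD 3]) (hc : c ≡ 1 [ZMOD 3]) (hu : u ≡ 2 [ZMOD 3])
    (hs : s ≡ 1 [ZMOD 3]) (hw : w ≡ 2 [ZMOD 3]) (hd : d ≡ 0 [ZMOD 3]) (hf : f ≡ 1 [ZMOD 3])
    (h11 : s = 1 - a - b - c + d) (h5 : 1 + u + 2 * s - w = 0)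
    (h1 : 1 + 10 * (a + b + c) + 11 * u + 32 * s + 44 * w + 45 * d + 55 * f = 0)
    (hN : (N : ℤ) = 1 + a ^ 2 + b ^ 2 + c ^ 2 + u ^ 2 + 2 * s ^ 2 + w ^ 2 + d ^ 2 + f ^ 2)
    (hdvd : N ∣ 144) (hcc : (16 : ℤ) ∣ ((7920 / N : ℕ) : ℤ) * s) :
    a = 1 ∧ b = 1 ∧ c = 1 ∧ u = 2 ∧ s = -2 ∧ w = -1 ∧ d = 0 ∧ f = 1 := by
  have hNle : N ≤ 144 := Nat.le_of_dvd (by norm_num) hdvd
  have hNle' : (N : ℤ) ≤ 144 := by exact_mod_cast hNle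
  have qa := sq_nonneg a
  have qb := sq_nonneg b
  have qc := sq_nonneg c
  have qu := sq_nonneg u
  have qs := sq_nonneg s
  have qw := sq_nonneg w
  have qd := sq_nonneg d
  have qf := sq_nonneg f
  have habc : a ^ 2 + b ^ 2 + c ^ 2 ≤ 143 := by linarith
  have ba := sq_bound a (by linarith)
  have bb := sq_bound b (by linarith)
  have bc := sq_bound c (by linarith)
  have bu := sq_bound u (by linarith)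
  have bs := sq_bound' s (by linarith)
  unfold Int.ModEq at ha hb hc hu hs hw hd hf
  obtain ⟨a', ha', rfl⟩ : ∃ a' : ℕ, a' < 8 ∧ a = 3 * (a' : ℤ) - 11 :=
    ⟨((a + 11) / 3).toNat, by omega, by omega⟩
  obtain ⟨b', hb', rfl⟩ : ∃ b' : ℕ, b' < 8 ∧ b = 3 * (b' : ℤ) - 11 :=
    ⟨((b + 11) / 3).toNat, by omega, by omega⟩
  obtain ⟨c', hc', rfl⟩ : ∃ c' : ℕ, c' < 8 ∧ c = 3 * (c' : ℤ) - 11 :=
    ⟨((c + 11) / 3).toNat, by omega, by omega⟩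
  obtain ⟨u', hu', rfl⟩ : ∃ u' : ℕ, u' < 8 ∧ u = 3 * (u' : ℤ) - 10 :=
    ⟨((u + 10) / 3).toNat, by omega, by omega⟩
  obtain ⟨s', hs', rfl⟩ : ∃ s' : ℕ, s' < 6 ∧ s = 3 * (s' : ℤ) - 8 :=
    ⟨((s + 8) / 3).toNat, by omega, by omega⟩
  obtain rfl : w = 1 + (3 * (u' : ℤ) - 10) + 2 * (3 * (s' : ℤ) - 8) := by omega
  obtain rfl : d = (3 * (s' : ℤ) - 8) - 1 + (3 * (a' : ℤ) - 11) + (3 * (b' : ℤ) - 11)
          + (3 * (c' : ℤ) - 11) := by omega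
  obtain rfl : f = -((3 * (a' : ℤ) - 11) + (3 * (b' : ℤ) - 11) + (3 * (c' : ℤ) - 11))
          - (3 * (u' : ℤ) - 10) - 3 * (3 * (s' : ℤ) - 8) := by omega
  have hdvd' : (N : ℤ) ∣ 144 := by exact_mod_cast hdvd
  have hNt : N = (N : ℤ).toNat := by simp
  rw [hNt] at hcc
  rw [hN] at hdvd' hcc
  obtain ⟨rfl, rfl, rfl, rfl, rfl⟩ :=
    real3_aux a' ha' b' hb' c' hc' habc u' hu' s' hs' (Int.emod_eq_zero_of_dvd hdvd')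
      (Int.emod_eq_zero_of_dvd hcc)
  norm_num

end Cfsg.Agent.H81.M11

section Check

example (a b c u s w d f : ℤ) (N : ℕ)
    (ha : a ≡ 2 [ZMOD 4]) (hb : b ≡ 2 [ZMOD 4]) (hc : c ≡ 2 [ZMOD 4]) (hu : u ≡ 3 [ZMOD 4])
    (hs : s ≡ 0 [ZMOD 4]) (hw : w ≡ 0 [ZMOD 4]) (hd : d ≡ 1 [ZMOD 4]) (hf : f ≡ 3 [ZMOD 4])
    (ba : |a| ≤ 10) (bb : |b| ≤ 10) (bc : |c| ≤ 10) (bu : |u| ≤ 11) (bs : |s| ≤ 16)
    (bw : |w| ≤ 44) (bd : |d| ≤ 45) (bf : |f| ≤ 55)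
    (h11 : s = 1 - a - b - c + d) (h5 : 1 + u + 2 * s - w = 0)
    (h1 : 1 + 10 * (a + b + c) + 11 * u + 32 * s + 44 * w + 45 * d + 55 * f = 0)
    (hsc : 720 - 72 * (a ^ 2 + b ^ 2 + c ^ 2) + 16 * d ^ 2 - 45 * s ^ 2 = 0)
    (hN : (N : ℤ) = 1 + a ^ 2 + b ^ 2 + c ^ 2 + u ^ 2 + 2 * s ^ 2 + w ^ 2 + d ^ 2 + f ^ 2)
    (hdvd : N ∣ 7920) : N = 48 :=
  Cfsg.Agent.H81.M11.invol_arith a b c u s w d f N ha hb hc hu hs hw hd hf ba bb bc bu bs bw bd bf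
    h11 h5 h1 hsc hN hdvd

example (a b c u s w d f : ℤ) (N : ℕ)
    (ha : a ≡ 1 [ZMOD 3]) (hb : b ≡ 1 [ZMOD 3]) (hc : c ≡ 1 [ZMOD 3]) (hu : u ≡ 2 [ZMOD 3])
    (hs : s ≡ 1 [ZMOD 3]) (hw : w ≡ 2 [ZMOD 3]) (hd : d ≡ 0 [ZMOD 3]) (hf : f ≡ 1 [ZMOD 3])
    (h11 : s = 1 - a - b - c + d) (h5 : 1 + u + 2 * s - w = 0)
    (h1 : 1 + 10 * (a + b + c) + 11 * u + 32 * s + 44 * w + 45 * d + 55 * f = 0)
    (hN : (N : ℤ) = 1 + a ^ 2 + b ^ 2 + c ^ 2 + u ^ 2 + 2 * s ^ 2 + w ^ 2 + d ^ 2 + f ^ 2)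
    (hdvd : N ∣ 144) (hcc : (16 : ℤ) ∣ ((7920 / N : ℕ) : ℤ) * s) :
    a = 1 ∧ b = 1 ∧ c = 1 ∧ u = 2 ∧ s = -2 ∧ w = -1 ∧ d = 0 ∧ f = 1 :=
  Cfsg.Agent.H81.M11.real3_arith a b c u s w d f N ha hb hc hu hs hw hd hf h11 h5 h1 hN hdvd hcc

end Check
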