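import Mathlib
import Cfsg.Prelude.Def_Blocks
import Cfsg.Agent.H81.Degree
import Cfsg.Agent.H79.PrincipalCoeff
import Cfsg.Agent.H79.CharBasic
import Cfsg.Agent.H80.Block

set_option autoImplicit false
set_option linter.style.haveILetI false

/-!
# helper81: the sum of `|χ(x)|²` over the principal block is a positive integer
-/

namespace Cfsg.Agent.H81

open Cfsg Polynomial
open scoped ComplexConjugate

set_option backward.isDefEq.respectTransparency false in
/-- An integer polynomial whose value at a primitive `n`-th root of unity `ζ` is unchanged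
under `ζ ↦ ζ ^ i`, `i` coprime to `n`, takes an integer value at `ζ`. -/
theorem exists_int_of_aeval_pow_invariant {n : ℕ} (hn : 0 < n) {ζ : ℂ}
    (hζ : IsPrimitiveRoot ζ n) (f : ℤ[X])
    (h : ∀ i : ℕ, i.Coprime n → aeval (ζ ^ i) f = aeval ζ f) :
    ∃ z : ℤ, aeval ζ f = (z : ℂ) := by
  classical
  have : NeZero n := ⟨hn.ne'⟩
  have hζK := IsCyclotomicExtension.zeta_spec n ℚ (CyclotomicField n ℚ)
  set ζK := IsCyclotomicExtension.zeta n ℚ (CyclotomicField n ℚ) with hζdef
  set x : CyclotomicField n ℚ := aeval ζK f with hxdef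
  have hx : IsIntegral ℤ x := Cfsg.Agent.H79.isIntegral_aeval_int ζK (hζK.isIntegral hn) f
  have hT : IsIntegral ℤ (Algebra.trace ℚ (CyclotomicField n ℚ) x) := Algebra.isIntegral_trace hx
  obtain ⟨z, hz⟩ := IsIntegrallyClosed.isIntegral_iff.mp hT
  have hsum := trace_eq_sum_embeddings (K := ℚ) (L := CyclotomicField n ℚ) ℂ (x := x)
  have hre : ∑ σ : CyclotomicField n ℚ →ₐ[ℚ] ℂ, σ x = ∑ μ ∈ primitiveRoots n ℂ, aeval μ f := by
    rw [← Finset.sum_coe_sort (primitiveRoots n ℂ)]
    refine Fintype.sum_equiv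
      (hζK.embeddingsEquivPrimitiveRoots ℂ (cyclotomic.irreducible_rat hn)) _ _ ?_
    intro σ
    rw [IsPrimitiveRoot.embeddingsEquivPrimitiveRoots_apply_coe, hxdef, aeval_def, aeval_def,
      ← AlgHom.coe_toRingHom, hom_eval₂]
    congr 1
    exact RingHom.ext_int _ _
  rw [hre, ← hz, ← Cfsg.Agent.H79.sum_coprime_pow_eq_sum_primitiveRoots hn hζ
    (fun μ => aeval μ f)] at hsum
  have hconst : ∑ i ∈ (Finset.range n).filter (fun i => i.Coprime n), aeval (ζ ^ i) f =
      (((Finset.range n).filter (fun i => i.Coprime n)).card : ℂ) * aeval ζ f := by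
    rw [Finset.sum_congr rfl (fun i hi => h i (Finset.mem_filter.mp hi).2)]
    rw [Finset.sum_const, nsmul_eq_mul]
  rw [hconst] at hsum
  set c := ((Finset.range n).filter (fun i => i.Coprime n)).card with hc
  have hcpos : 0 < c := by
    rw [hc, Cfsg.Agent.H79.card_coprime_eq_card_primitiveRoots hn hζ]
    exact Finset.card_pos.mpr ⟨ζ, (mem_primitiveRoots hn).mpr hζ⟩
  have hc0 : (c : ℂ) ≠ 0 := by exact_mod_cast hcpos.ne'
  have hval : aeval ζ f = (z : ℂ) / ((c : ℤ) : ℂ) := by
    rw [eq_div_iff (by exact_mod_cast hcpos.ne')]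
    have h2 : (algebraMap ℚ ℂ) ((algebraMap ℤ ℚ) z) = (z : ℂ) := by simp
    rw [h2] at hsum
    push_cast
    rw [mul_comm, ← hsum]
  have hint : IsIntegral ℤ ((z : ℂ) / ((c : ℤ) : ℂ)) := by
    rw [← hval]
    exact Cfsg.Agent.H79.isIntegral_aeval_int ζ (hζ.isIntegral hn) f
  obtain ⟨w, hw⟩ := int_dvd_of_isIntegral_div (by exact_mod_cast hcpos.ne') hint
  refine ⟨w, ?_⟩
  rw [hval, hw]
  push_cast
  field_simp

/-- The sum of `|χ(x)|²` over the principal block is a positive integer. -/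
theorem principal_normSq_sum_nat {G : Type*} [Group G] [Finite G] (M : Ideal AlgInt)
    (hMp : M.IsPrime) (x : G) :
    ∃ n : ℕ, 0 < n ∧
      ∑ᶠ χ ∈ principalBlock M G, Complex.normSq ((χ : G → ℂ) x) = n := by
  classical
  haveI : Fintype G := Fintype.ofFinite G
  haveI : Finite (IrrCharacter G) := Cfsg.Agent.H80.irr_finite G
  haveI : Fintype (IrrCharacter G) := Fintype.ofFinite _
  have hn : 0 < Fintype.card G := Fintype.card_pos
  have hcard : Nat.card G = Fintype.card G := Nat.card_eq_fintype_card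
  set ζ := Cfsg.Agent.H79.stdRoot (Fintype.card G) with hζdef
  have hζ : IsPrimitiveRoot ζ (Fintype.card G) := Cfsg.Agent.H79.stdRoot_spec hn
  have hpoly : ∀ χ : IrrCharacter G, ∃ f : ℤ[X],
      ∀ k : ℕ, (χ : G → ℂ) (x ^ k) = aeval (ζ ^ k) f := by
    intro χ
    obtain ⟨m, ρ, -, hχ⟩ := χ.2
    obtain ⟨f, -, -, hf⟩ := Cfsg.Agent.H79.exists_poly_char ρ x
    refine ⟨f, fun k => ?_⟩
    rw [← hχ]
    exact hf k
  choose f hf using hpoly
  set F : ℤ[X] := ∑ χ : IrrCharacter G,
    if χ ∈ principalBlock M G then f χ * (f χ).comp (X ^ (Fintype.card G - 1)) else 0 with hF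
  have hFval : ∀ k : ℕ, aeval (ζ ^ k) F = ∑ χ : IrrCharacter G,
      if χ ∈ principalBlock M G then ((Complex.normSq ((χ : G → ℂ) (x ^ k)) : ℝ) : ℂ) else 0 := by
    intro k
    rw [hF, map_sum]
    apply Finset.sum_congr rfl
    intro χ _
    split_ifs with hmem
    · rw [map_mul, aeval_comp, map_pow, aeval_X]
      have hw : (ζ ^ k) ^ Fintype.card G = 1 := by
        rw [← pow_mul, mul_comm, pow_mul, hζ.pow_eq_one, one_pow]
      rw [Cfsg.Agent.H79.pow_pred_eq_conj hn hw, ← Cfsg.Agent.H79.conj_aeval_int, ← hf χ k,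
        Complex.mul_conj]
    · rw [map_zero]
  have hinv : ∀ i : ℕ, i.Coprime (Fintype.card G) → aeval (ζ ^ i) F = aeval ζ F := by
    intro i hi
    have hi' : i.Coprime (Nat.card G) := by rw [hcard]; exact hi
    have h1 := hFval 1
    rw [pow_one] at h1
    rw [hFval i, h1]
    set e : IrrCharacter G ≃ IrrCharacter G :=
      Equiv.ofBijective (Cfsg.Agent.H79.irrPow i hi') (Cfsg.Agent.H79.irrPow_bijective i hi')
    rw [← Equiv.sum_comp e (fun χ : IrrCharacter G =>
      if χ ∈ principalBlock M G then ((Complex.normSq ((χ : G → ℂ) (x ^ 1)) : ℝ) : ℂ) else 0)]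
    apply Finset.sum_congr rfl
    intro χ _
    have hmem : e χ ∈ principalBlock M G ↔ χ ∈ principalBlock M G :=
      Cfsg.Agent.H79.irrPow_mem_principalBlock_iff M i hi' χ
    have hval : ((e χ : IrrCharacter G) : G → ℂ) (x ^ 1) = (χ : G → ℂ) (x ^ i) := by
      rw [pow_one]
      exact Cfsg.Agent.H79.irrPow_apply i hi' χ x
    by_cases hχ : χ ∈ principalBlock M G
    · rw [if_pos hχ, if_pos (hmem.mpr hχ), hval]
    · rw [if_neg hχ, if_neg (fun h => hχ (hmem.mp h))]
  obtain ⟨z, hz⟩ := exists_int_of_aeval_pow_invariant hn hζ F hinv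
  have h1 := hFval 1
  rw [pow_one, hz] at h1
  simp only [pow_one] at h1
  have hfin : ∑ᶠ χ ∈ principalBlock M G, Complex.normSq ((χ : G → ℂ) x) =
      ∑ χ : IrrCharacter G,
        if χ ∈ principalBlock M G then Complex.normSq ((χ : G → ℂ) x) else 0 := by
    rw [finsum_mem_def, finsum_eq_sum_of_fintype]
    apply Finset.sum_congr rfl
    intro χ _
    rw [Set.indicator_apply]
  have hreal : (∑ χ : IrrCharacter G,
      if χ ∈ principalBlock M G then Complex.normSq ((χ : G → ℂ) x) else 0) = (z : ℝ) := by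
    apply Complex.ofReal_injective
    rw [Complex.ofReal_sum]
    have : ((z : ℝ) : ℂ) = (z : ℂ) := by push_cast; rfl
    rw [this, h1]
    apply Finset.sum_congr rfl
    intro χ _
    split_ifs <;> simp
  have hpos : (1 : ℝ) ≤ ∑ χ : IrrCharacter G,
      if χ ∈ principalBlock M G then Complex.normSq ((χ : G → ℂ) x) else 0 := by
    have hle := Finset.single_le_sum (f := fun χ : IrrCharacter G =>
      if χ ∈ principalBlock M G then Complex.normSq ((χ : G → ℂ) x) else 0)
      (fun χ _ => by split_ifs <;> simp [Complex.normSq_nonneg])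
      (Finset.mem_univ (Cfsg.Agent.H80.trivChar G))
    simp only [if_pos (Cfsg.Agent.H80.trivChar_mem_principalBlock (G := G) hMp)] at hle
    rw [Cfsg.Agent.H80.trivChar_apply, Complex.normSq_one] at hle
    exact hle
  rw [hreal] at hpos
  have hz1 : 1 ≤ z := by exact_mod_cast hpos
  refine ⟨z.toNat, by omega, ?_⟩
  rw [hfin, hreal]
  have : ((z.toNat : ℕ) : ℤ) = z := Int.toNat_of_nonneg (by omega)
  exact_mod_cast this.symm

end Cfsg.Agent.H81
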