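import Mathlib
import Cfsg.Prelude.Def_Characters
import Cfsg.Agent.H4.Chars
import Cfsg.Agent.H4.BrauerBasic
import Cfsg.Agent.H4.Clifford

set_option autoImplicit false
set_option linter.unusedSectionVars false
set_option linter.style.haveILetI false

/-!
# Induction of functions along injective homomorphisms

A thin layer over `Cfsg.indFun`, convenient when the subgroup is given as the image of an
injective homomorphism.
-/

namespace Cfsg.Agent.H81.Dade

open Cfsg Cfsg.Agent.H4
open scoped ComplexConjugate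

universe u

section Ind

variable {K W : Type u} [Group K] [Group W]

/-- Extension by zero along a homomorphism. -/
noncomputable def ext (j : K →* W) (θ : K → ℂ) : W → ℂ := Function.extend j θ 0

theorem ext_apply {j : K →* W} (hj : Function.Injective j) (θ : K → ℂ) (k : K) :
    ext j θ (j k) = θ k := hj.extend_apply θ 0 k

theorem ext_of_not_mem (j : K →* W) (θ : K → ℂ) {w : W} (hw : w ∉ j.range) : ext j θ w = 0 := by
  unfold ext
  rw [Function.extend_apply']
  · rfl
  · rintro ⟨k, rfl⟩; exact hw ⟨k, rfl⟩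

/-- Induction along a homomorphism. -/
noncomputable def ind [Fintype W] (j : K →* W) (θ : K → ℂ) : W → ℂ :=
  fun w => (Nat.card K : ℂ)⁻¹ * ∑ x : W, ext j θ (x⁻¹ * w * x)

theorem ind_apply [Fintype W] (j : K →* W) (θ : K → ℂ) (w : W) :
    ind j θ w = (Nat.card K : ℂ)⁻¹ * ∑ x : W, ext j θ (x⁻¹ * w * x) := rfl

theorem ext_eq_extendByZero {j : K →* W} (hj : Function.Injective j) (θ : K → ℂ) (v : W) :
    ext j θ v = extendByZero j.range (fun y => θ ((MonoidHom.ofInjective hj).symm y)) v := by
  by_cases hv : v ∈ j.range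
  · obtain ⟨k, rfl⟩ := hv
    rw [ext_apply hj, extendByZero_of_mem _ _ (⟨k, rfl⟩ : j k ∈ j.range)]
    congr 1
    symm
    rw [MulEquiv.symm_apply_eq]
    exact Subtype.ext (MonoidHom.ofInjective_apply hj).symm
  · rw [ext_of_not_mem _ _ hv, extendByZero_of_not_mem _ _ hv]

theorem ind_eq_indFun [Fintype W] {j : K →* W} (hj : Function.Injective j) (θ : K → ℂ) :
    ind j θ = indFun j.range (fun y => θ ((MonoidHom.ofInjective hj).symm y)) := by
  funext w
  rw [ind_apply, indFun_apply, Nat.card_congr (MonoidHom.ofInjective hj).toEquiv]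
  simp only [ext_eq_extendByZero hj]

theorem indFun_eq_ind [Fintype W] (H : Subgroup W) (θ : H → ℂ) :
    indFun H θ = ind H.subtype θ := rfl

theorem ind_isClassFunction [Fintype W] {j : K →* W} (hj : Function.Injective j) (θ : K → ℂ) :
    IsClassFunction W (ind j θ) := by
  rw [ind_eq_indFun hj]
  exact indFun_isClassFunction _ _

theorem isCharacter_ind [Fintype W] {j : K →* W} (hj : Function.Injective j) {θ : K → ℂ}
    (hθ : IsCharacter K θ) : IsCharacter W (ind j θ) := by
  rw [ind_eq_indFun hj]
  exact isCharacter_indFun _ _ (isCharacter_comp ((MonoidHom.ofInjective hj).symm.toMonoidHom) hθ)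

theorem ind_hom_monomial [Fintype W] {j : K →* W} (hj : Function.Injective j) (lam : K →* ℂˣ) :
    ∃ (H : Subgroup W) (l : H →* ℂˣ),
      ind j (fun k => ((lam k : ℂˣ) : ℂ)) = indFun H (fun h => ((l h : ℂˣ) : ℂ)) :=
  ⟨j.range, lam.comp (MonoidHom.ofInjective hj).symm.toMonoidHom, ind_eq_indFun hj _⟩

/-- Frobenius reciprocity. -/
theorem classInner_ind [Fintype W] [Fintype K] {j : K →* W} (hj : Function.Injective j)
    (θ : K → ℂ) (χ : W → ℂ) (hχ : IsClassFunction W χ) :
    classInner (ind j θ) χ = classInner θ (fun k => χ (j k)) := by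
  haveI : Fintype j.range := Fintype.ofFinite _
  rw [ind_eq_indFun hj, frobenius_reciprocity _ _ _ hχ]
  unfold classInner
  rw [Nat.card_congr (MonoidHom.ofInjective hj).toEquiv]
  congr 1
  refine (Fintype.sum_equiv (MonoidHom.ofInjective hj).toEquiv _ _ (fun k => ?_)).symm
  simp only [MulEquiv.toEquiv_eq_coe, EquivLike.coe_coe, MulEquiv.symm_apply_apply,
    MonoidHom.ofInjective_apply]

theorem ext_ext {L : Type u} [Group L] {i : L →* K} {j : K →* W} (hi : Function.Injective i)
    (hj : Function.Injective j) (θ : L → ℂ) :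
    ext j (ext i θ) = ext (j.comp i) θ := by
  funext w
  by_cases hw : w ∈ j.range
  · obtain ⟨k, rfl⟩ := hw
    rw [ext_apply hj]
    by_cases hk : k ∈ i.range
    · obtain ⟨l, rfl⟩ := hk
      rw [ext_apply hi]
      exact (ext_apply (j := j.comp i) (hj.comp hi) θ l).symm
    · rw [ext_of_not_mem _ _ hk, ext_of_not_mem]
      rintro ⟨l, hl⟩
      exact hk ⟨l, hj hl⟩
  · rw [ext_of_not_mem _ _ hw, ext_of_not_mem]
    rintro ⟨l, hl⟩
    exact hw ⟨i l, hl⟩

/-- Transitivity of induction. -/
theorem ind_ind [Fintype W] [Fintype K] {L : Type u} [Group L] {i : L →* K} {j : K →* W}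
    (hi : Function.Injective i) (hj : Function.Injective j) (θ : L → ℂ) :
    ind j (ind i θ) = ind (j.comp i) θ := by
  have hK : (Nat.card K : ℂ) ≠ 0 := (neZero_card_complex K).out
  have step : ∀ v : W, ext j (ind i θ) v =
      (Nat.card L : ℂ)⁻¹ * ∑ y : K, ext (j.comp i) θ ((j y)⁻¹ * v * (j y)) := by
    intro v
    by_cases hv : v ∈ j.range
    · obtain ⟨k, rfl⟩ := hv
      rw [ext_apply hj, ind_apply]
      congr 1
      refine Finset.sum_congr rfl fun y _ => ?_
      rw [← ext_ext hi hj, ← map_inv, ← map_mul, ← map_mul, ext_apply hj]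
    · rw [ext_of_not_mem _ _ hv]
      symm
      rw [mul_eq_zero]
      right
      refine Finset.sum_eq_zero fun y _ => ?_
      apply ext_of_not_mem
      rintro ⟨l, hl⟩
      apply hv
      refine ⟨y * i l * y⁻¹, ?_⟩
      rw [map_mul, map_mul, map_inv]
      have hl' : j (i l) = (j y)⁻¹ * v * (j y) := hl
      rw [hl']
      group
  funext w
  rw [ind_apply, ind_apply]
  simp only [step]
  rw [← Finset.mul_sum, Finset.sum_comm]
  have step4 : ∀ y : K, ∑ x : W, ext (j.comp i) θ ((j y)⁻¹ * (x⁻¹ * w * x) * (j y)) =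
      ∑ x : W, ext (j.comp i) θ (x⁻¹ * w * x) := by
    intro y
    rw [← Equiv.sum_comp (Equiv.mulRight (j y)) (fun x => ext (j.comp i) θ (x⁻¹ * w * x))]
    refine Finset.sum_congr rfl fun x _ => ?_
    congr 1
    simp [mul_assoc]
  simp only [step4, Finset.sum_const, Finset.card_univ, nsmul_eq_mul]
  rw [← Nat.card_eq_fintype_card (α := K)]
  field_simp

theorem ext_sum {ι : Type*} (s : Finset ι) {j : K →* W} (hj : Function.Injective j)
    (θ : ι → K → ℂ) (w : W) :
    ext j (fun k => ∑ a ∈ s, θ a k) w = ∑ a ∈ s, ext j (θ a) w := by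
  by_cases hw : w ∈ j.range
  · obtain ⟨k, rfl⟩ := hw
    simp only [ext_apply hj]
  · simp only [ext_of_not_mem _ _ hw, Finset.sum_const_zero]

theorem ext_smul {j : K →* W} (hj : Function.Injective j) (c : ℂ) (θ : K → ℂ) (w : W) :
    ext j (fun k => c * θ k) w = c * ext j θ w := by
  by_cases hw : w ∈ j.range
  · obtain ⟨k, rfl⟩ := hw
    simp only [ext_apply hj]
  · simp only [ext_of_not_mem _ _ hw, mul_zero]

theorem ind_sum [Fintype W] {ι : Type*} (s : Finset ι) {j : K →* W} (hj : Function.Injective j)
    (θ : ι → K → ℂ) (w : W) :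
    ind j (fun k => ∑ a ∈ s, θ a k) w = ∑ a ∈ s, ind j (θ a) w := by
  simp only [ind_apply, ext_sum s hj]
  rw [Finset.sum_comm, Finset.mul_sum]

theorem ind_smul [Fintype W] {j : K →* W} (hj : Function.Injective j) (c : ℂ) (θ : K → ℂ)
    (w : W) : ind j (fun k => c * θ k) w = c * ind j θ w := by
  simp only [ind_apply, ext_smul hj]
  rw [← Finset.mul_sum]
  ring

/-- Inducing an extension by zero. -/
theorem ind_ext [Fintype W] {L : Type u} [Group L] {i : L →* K} {j : K →* W}
    (hi : Function.Injective i) (hj : Function.Injective j) (θ : L → ℂ) (w : W) :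
    ind j (ext i θ) w = (Nat.card K : ℂ)⁻¹ * (Nat.card L : ℂ) * ind (j.comp i) θ w := by
  have hL : (Nat.card L : ℂ) ≠ 0 := by
    haveI : Finite L := Finite.of_injective _ (hj.comp hi)
    exact (neZero_card_complex L).out
  rw [ind_apply, ind_apply, ext_ext hi hj]
  field_simp

/-- A character whose pull-back along a homomorphism is irreducible is irreducible. -/
theorem isIrrCharacter_of_comp [Fintype W] [Fintype K] (j : K →* W) {χ : W → ℂ}
    (hχ : IsCharacter W χ) (h : IsIrrCharacter K (fun k => χ (j k))) : IsIrrCharacter W χ := by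
  classical
  letI := fintypeIrr W
  obtain ⟨m, hm⟩ := isCharacter_iff.mp hχ
  have hχ1 : χ 1 ≠ 0 := by
    have := irr_one_ne_zero (⟨_, h⟩ : IrrCharacter K)
    simpa using this
  obtain ⟨η₀, hη₀⟩ : ∃ η₀ : IrrCharacter W, m η₀ ≠ 0 := by
    by_contra hcon
    push Not at hcon
    apply hχ1
    rw [hm]
    simp [hcon]
  -- the complementary character
  set m' : IrrCharacter W → ℕ := fun η => if η = η₀ then m η - 1 else m η with hm'
  set χ' : W → ℂ := ∑ᶠ η : IrrCharacter W, (m' η : ℂ) • (η : W → ℂ) with hχ'
  have hχ'c : IsCharacter W χ' := isCharacter_finsum_irr m'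
  have hsplit : χ = (η₀ : W → ℂ) + χ' := by
    rw [hm, hχ', finsum_irr_eq_sum, finsum_irr_eq_sum]
    rw [← Finset.add_sum_erase Finset.univ _ (Finset.mem_univ η₀),
      ← Finset.add_sum_erase Finset.univ (fun η => (m' η : ℂ) • (η : W → ℂ)) (Finset.mem_univ η₀)]
    have e1 : ∀ η ∈ Finset.univ.erase η₀, (m' η : ℂ) • (η : W → ℂ) = (m η : ℂ) • (η : W → ℂ) := by
      intro η hη
      have : m' η = m η := if_neg (Finset.ne_of_mem_erase hη)
      rw [this]
    rw [Finset.sum_congr rfl e1, ← add_assoc]
    congr 1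
    have : m' η₀ = m η₀ - 1 := if_pos rfl
    rw [this]
    have h1 : 1 ≤ m η₀ := Nat.one_le_iff_ne_zero.mpr hη₀
    push_cast [Nat.cast_sub h1]
    rw [sub_smul, one_smul]
    abel
  -- restrict
  set a : K → ℂ := fun k => (η₀ : W → ℂ) (j k) with ha
  set b : K → ℂ := fun k => χ' (j k) with hb
  have hac : IsCharacter K a := isCharacter_comp j (isCharacter_of_isIrrCharacter η₀.2)
  have hbc : IsCharacter K b := isCharacter_comp j hχ'c
  have hab : (fun k => χ (j k)) = a + b := by
    funext k
    rw [hsplit]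
    rfl
  set ψ : IrrCharacter K := ⟨_, h⟩ with hψ
  have hψab : (ψ : K → ℂ) = a + b := hab
  obtain ⟨na, hna⟩ := classInner_isCharacter_nat hac (isCharacter_of_isIrrCharacter ψ.2)
  obtain ⟨nb, hnb⟩ := classInner_isCharacter_nat hbc (isCharacter_of_isIrrCharacter ψ.2)
  obtain ⟨nab, hnab⟩ := classInner_isCharacter_nat hac hbc
  obtain ⟨nbb, hnbb⟩ := classInner_isCharacter_nat hbc hbc
  obtain ⟨naa, hnaa⟩ := classInner_isCharacter_nat hac hac
  obtain ⟨nba, hnba⟩ := classInner_isCharacter_nat hbc hac
  have h1 : (na : ℂ) + nb = 1 := by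
    rw [← hna, ← hnb, ← classInner_add_left, ← hψab, irr_inner_self]
  have h1' : na + nb = 1 := by exact_mod_cast h1
  -- b = 0
  have hb0 : b = 0 := by
    rcases Nat.eq_zero_or_pos nb with hz | hpos
    · -- ⟨b, a + b⟩ = 0 gives ⟨b,b⟩ = 0
      have h2 : classInner b (a + b) = 0 := by
        rw [← hψab, hnb, hz, Nat.cast_zero]
      rw [classInner_add_right, hnba, hnbb] at h2
      have h3 : nba + nbb = 0 := by exact_mod_cast h2
      have h4 : classInner b b = 0 := by rw [hnbb]; have : nbb = 0 := by omega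
                                         rw [this, Nat.cast_zero]
      -- positivity
      unfold classInner at h4
      have hN : (Nat.card K : ℂ) ≠ 0 := (neZero_card_complex K).out
      have h5 : ∑ g : K, b g * conj (b g) = 0 := by
        rcases mul_eq_zero.mp h4 with h | h
        · exact absurd (inv_eq_zero.mp h) hN
        · exact h
      have h6 : ∀ g : K, b g * conj (b g) = ((Complex.normSq (b g) : ℝ) : ℂ) := by
        intro g
        rw [Complex.mul_conj]
      simp only [h6] at h5
      rw [← Complex.ofReal_sum] at h5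
      have h7 : ∑ g : K, Complex.normSq (b g) = 0 := by exact_mod_cast h5
      have h8 := (Finset.sum_eq_zero_iff_of_nonneg (fun g _ => Complex.normSq_nonneg (b g))).mp h7
      funext g
      exact Complex.normSq_eq_zero.mp (h8 g (Finset.mem_univ g))
    · -- then na = 0, so ⟨a, a+b⟩ = 0, so a = 0, contradiction
      exfalso
      have hz : na = 0 := by omega
      have h2 : classInner a (a + b) = 0 := by
        rw [← hψab, hna, hz, Nat.cast_zero]
      rw [classInner_add_right, hnaa, hnab] at h2
      have h3 : naa + nab = 0 := by exact_mod_cast h2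
      have h4 : classInner a a = 0 := by rw [hnaa]; have : naa = 0 := by omega
                                         rw [this, Nat.cast_zero]
      unfold classInner at h4
      have hN : (Nat.card K : ℂ) ≠ 0 := (neZero_card_complex K).out
      have h5 : ∑ g : K, a g * conj (a g) = 0 := by
        rcases mul_eq_zero.mp h4 with h | h
        · exact absurd (inv_eq_zero.mp h) hN
        · exact h
      have h6 : ∀ g : K, a g * conj (a g) = ((Complex.normSq (a g) : ℝ) : ℂ) := by
        intro g
        rw [Complex.mul_conj]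
      simp only [h6] at h5
      rw [← Complex.ofReal_sum] at h5
      have h7 : ∑ g : K, Complex.normSq (a g) = 0 := by exact_mod_cast h5
      have h8 := (Finset.sum_eq_zero_iff_of_nonneg (fun g _ => Complex.normSq_nonneg (a g))).mp h7
      have h9 : a 1 = 0 := Complex.normSq_eq_zero.mp (h8 1 (Finset.mem_univ 1))
      rw [ha] at h9
      simp only [map_one] at h9
      exact irr_one_ne_zero η₀ h9
  have hχ'0 : χ' = 0 := by
    apply isCharacter_eq_zero_of_one_eq_zero hχ'c
    have := congrFun hb0 1
    simpa [hb] using this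
  rw [hsplit, hχ'0, add_zero]
  exact η₀.2

end Ind

end Cfsg.Agent.H81.Dade
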