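import Mathlib
import Cfsg.Prelude.Def_Characters
import Cfsg.Agent.H4.Regular
import Cfsg.Agent.H81.DadeInd

set_option autoImplicit false
set_option linter.unusedSectionVars false
set_option linter.style.haveILetI false

/-!
# Irreducible characters of a finite power of a group
-/

namespace Cfsg.Agent.H81.Dade

open Cfsg Cfsg.Agent.H4
open scoped ComplexConjugate

universe u

section Pi

variable {Q : Type u} [Fintype Q] [DecidableEq Q]

section Dep

variable {L : Q → Type u} [∀ q, Group (L q)] [∀ q, Fintype (L q)]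

/-- The outer tensor product of a family of functions. -/
def tens (θ : ∀ q, L q → ℂ) : (∀ q, L q) → ℂ := fun f => ∏ q, θ q (f q)

theorem tens_apply (θ : ∀ q, L q → ℂ) (f : ∀ q, L q) : tens θ f = ∏ q, θ q (f q) := rfl

theorem sum_tens (θ : ∀ q, L q → ℂ) : ∑ f : (∀ q, L q), tens θ f = ∏ q, ∑ m : L q, θ q m := by
  simp only [tens_apply]
  exact (Fintype.prod_sum (fun q m => θ q m)).symm

theorem isCharacter_tens (θ : ∀ q, L q → ℂ) (h : ∀ q, IsCharacter (L q) (θ q)) :
    IsCharacter (∀ q, L q) (tens θ) := by
  have key : ∀ s : Finset Q, IsCharacter (∀ q, L q) (fun f => ∏ q ∈ s, θ q (f q)) := by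
    intro s
    induction s using Finset.induction_on with
    | empty =>
      have := isCharacter_of_hom (1 : (∀ q, L q) →* ℂˣ)
      simpa using this
    | insert a s ha ih =>
      have e : (fun f : ∀ q, L q => ∏ q ∈ insert a s, θ q (f q)) =
          (fun f => θ a (Pi.evalMonoidHom L a f)) * (fun f => ∏ q ∈ s, θ q (f q)) := by
        funext f
        rw [Finset.prod_insert ha]
        rfl
      rw [e]
      exact isCharacter_mul (isCharacter_comp (Pi.evalMonoidHom L a) (h a)) ih
  exact key Finset.univ

theorem classInner_tens (θ θ' : ∀ q, L q → ℂ) :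
    classInner (tens θ) (tens θ') = ∏ q, classInner (θ q) (θ' q) := by
  unfold classInner
  rw [Nat.card_pi, Nat.cast_prod, ← Finset.prod_inv_distrib, Finset.prod_mul_distrib]
  congr 1
  rw [Fintype.prod_sum]
  refine Finset.sum_congr rfl fun f _ => ?_
  rw [tens_apply, tens_apply, map_prod, ← Finset.prod_mul_distrib]

/-- The product of a family of homomorphisms into a fixed group. -/
def pmap {M : Type u} [Group M] (i : ∀ q, L q →* M) : (∀ q, L q) →* (Q → M) :=
  MonoidHom.pi (fun q => (i q).comp (Pi.evalMonoidHom L q))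

theorem pmap_apply {M : Type u} [Group M] (i : ∀ q, L q →* M) (l : ∀ q, L q) (q : Q) :
    pmap i l q = i q (l q) := rfl

theorem pmap_injective {M : Type u} [Group M] (i : ∀ q, L q →* M)
    (hi : ∀ q, Function.Injective (i q)) : Function.Injective (pmap i) := by
  intro l l' h
  funext q
  exact hi q (congrFun h q)

theorem ext_pmap {M : Type u} [Group M] (i : ∀ q, L q →* M)
    (hi : ∀ q, Function.Injective (i q)) (θ : ∀ q, L q → ℂ) (g : Q → M) :
    ext (pmap i) (tens θ) g = ∏ q, ext (i q) (θ q) (g q) := by
  by_cases h : ∀ q, g q ∈ (i q).range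
  · choose l hl using h
    have hg : g = pmap i l := funext fun q => (hl q).symm
    rw [hg, ext_apply (pmap_injective i hi), tens_apply]
    refine Finset.prod_congr rfl fun q _ => ?_
    rw [pmap_apply, ext_apply (hi q)]
  · push Not at h
    obtain ⟨q, hq⟩ := h
    rw [ext_of_not_mem, Finset.prod_eq_zero (i := q) (Finset.mem_univ q) (ext_of_not_mem (i q) (θ q) hq)]
    rintro ⟨l, rfl⟩
    exact hq ⟨l q, rfl⟩

/-- The tensor product of induced functions is induced from the product. -/
theorem tens_ind {M : Type u} [Group M] [Fintype M] (i : ∀ q, L q →* M)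
    (hi : ∀ q, Function.Injective (i q)) (θ : ∀ q, L q → ℂ) :
    tens (fun q => ind (i q) (θ q)) = ind (pmap i) (tens θ) := by
  funext f
  rw [tens_apply, ind_apply]
  simp only [ext_pmap i hi, ind_apply]
  rw [Finset.prod_mul_distrib, Nat.card_pi, Nat.cast_prod, Finset.prod_inv_distrib]
  congr 1
  rw [Fintype.prod_sum]
  rfl

/-- The product of a family of linear characters. -/
noncomputable def homProd (lam : ∀ q, L q →* ℂˣ) : (∀ q, L q) →* ℂˣ :=
  ∏ q, (lam q).comp (Pi.evalMonoidHom L q)

theorem homProd_apply (lam : ∀ q, L q →* ℂˣ) (l : ∀ q, L q) :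
    ((homProd lam l : ℂˣ) : ℂ) = tens (fun q k => ((lam q k : ℂˣ) : ℂ)) l := by
  unfold homProd
  rw [MonoidHom.finsetProd_apply, Units.coe_prod, tens_apply]
  rfl

end Dep

section Const

variable {M : Type u} [Group M] [Fintype M]

/-- The outer tensor product of a family of irreducible characters. -/
def tensIrr (θ : Q → IrrCharacter M) : (Q → M) → ℂ := tens (fun q => ((θ q : IrrCharacter M) : M → ℂ))

theorem classInner_tensIrr (θ θ' : Q → IrrCharacter M) :
    classInner (tensIrr θ) (tensIrr θ') = if θ = θ' then 1 else 0 := by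
  classical
  unfold tensIrr
  rw [classInner_tens]
  simp only [irr_inner]
  rw [Finset.prod_ite_zero]
  simp only [Finset.mem_univ, forall_const, Finset.prod_const_one, funext_iff]

theorem isIrrCharacter_tensIrr (θ : Q → IrrCharacter M) :
    IsIrrCharacter (Q → M) (tensIrr θ) := by
  apply isIrrCharacter_of_norm_one
  · exact isCharacter_tens _ fun q => isCharacter_of_isIrrCharacter (θ q).2
  · rw [classInner_tensIrr, if_pos rfl]

theorem sum_irr_one_mul [DecidableEq M] (m : M) :
    @Finset.sum _ _ _ (@Finset.univ _ (fintypeIrr M))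
      (fun χ : IrrCharacter M => (χ : M → ℂ) 1 * (χ : M → ℂ) m) =
      if m = 1 then (Nat.card M : ℂ) else 0 := by
  have h := congrFun (leftRegular_character_eq (G := M)) m
  rw [character_leftRegular, finsum_irr_eq_sum, Finset.sum_apply] at h
  rw [h]
  rfl

/-- Every irreducible character of a power is an outer tensor product. -/
theorem exists_tensIrr {ψ : (Q → M) → ℂ} (hψ : IsIrrCharacter (Q → M) ψ) :
    ∃ θ : Q → IrrCharacter M, ψ = tensIrr θ := by
  classical
  letI := fintypeIrr M
  by_contra hne
  push Not at hne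
  have hzero : ∀ θ : Q → IrrCharacter M, classInner ψ (tensIrr θ) = 0 := by
    intro θ
    have h := irr_inner (⟨ψ, hψ⟩ : IrrCharacter (Q → M)) ⟨tensIrr θ, isIrrCharacter_tensIrr θ⟩
    rw [if_neg] at h
    · exact h
    · intro h'
      exact hne θ (congrArg Subtype.val h')
  set c : (Q → IrrCharacter M) → ℂ := fun θ => ∏ q, ((θ q : IrrCharacter M) : M → ℂ) 1 with hc
  set R : (Q → M) → ℂ := ∑ θ : Q → IrrCharacter M, c θ • tensIrr θ with hR
  have hR0 : classInner ψ R = 0 := by
    rw [hR, classInner_sum_right]
    refine Finset.sum_eq_zero fun θ _ => ?_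
    rw [classInner_smul_right, hzero, mul_zero]
  have hRf : ∀ f : Q → M, R f = if f = 1 then (Nat.card (Q → M) : ℂ) else 0 := by
    intro f
    have h1 : R f = ∏ q, ∑ χ : IrrCharacter M, (χ : M → ℂ) 1 * (χ : M → ℂ) (f q) := by
      rw [hR, Finset.sum_apply, Fintype.prod_sum]
      refine Finset.sum_congr rfl fun θ _ => ?_
      rw [Pi.smul_apply, smul_eq_mul, hc, Finset.prod_mul_distrib]
      rfl
    rw [h1]
    simp only [sum_irr_one_mul]
    rw [Finset.prod_ite_zero]
    simp only [Finset.mem_univ, forall_const, Finset.prod_const, Finset.card_univ]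
    have e : (∀ q, f q = 1) ↔ f = 1 := by
      constructor
      · intro h; funext q; exact h q
      · intro h q; rw [h]; rfl
    rw [Nat.card_pi, Finset.prod_const, Finset.card_univ, Nat.cast_pow]
    simp only [e]
  have hR1 : classInner ψ R = ψ 1 := by
    have hN : (Nat.card (Q → M) : ℂ) ≠ 0 := (neZero_card_complex (Q → M)).out
    unfold classInner
    rw [Finset.sum_eq_single 1]
    · rw [hRf 1, if_pos rfl, Complex.conj_natCast]
      field_simp
    · intro f _ hf
      rw [hRf f, if_neg hf, map_zero, mul_zero]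
    · intro h; exact absurd (Finset.mem_univ _) h
  rw [hR1] at hR0
  exact irr_one_ne_zero (⟨ψ, hψ⟩ : IrrCharacter (Q → M)) hR0

end Const

end Pi

end Cfsg.Agent.H81.Dade
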