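import Mathlib
import Cfsg.Prelude.Def_Characters
import Cfsg.Agent.H4.Monomial
import Cfsg.Agent.H32.Dual
import Cfsg.Agent.H80.AbelIndex
import Cfsg.Agent.H81.DadePi

set_option autoImplicit false
set_option linter.unusedSectionVars false
set_option linter.style.haveILetI false

/-!
# The wreath product of an M-group with a group of prime order is an M-group
-/

namespace Cfsg.Agent.H81.Dade

open Cfsg Cfsg.Agent.H4
open scoped ComplexConjugate

universe u

/-- Every irreducible character is induced from a linear character of a subgroup. -/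
def IsM (M : Type u) [Group M] [Fintype M] : Prop :=
  ∀ χ : M → ℂ, IsIrrCharacter M χ →
    ∃ (H : Subgroup M) (lam : H →* ℂˣ), χ = indFun H (fun h => ((lam h : ℂˣ) : ℂ))

section Wr

variable {Q : Type u} [Group Q]

/-- The shift action of `Q` on `Q → M`. -/
def shift (M : Type u) [Group M] : Q →* MulAut (Q → M) where
  toFun q :=
    { toFun := fun f x => f (x * q)
      invFun := fun f x => f (x * q⁻¹)
      left_inv := fun f => by funext x; simp
      right_inv := fun f => by funext x; simp
      map_mul' := fun _ _ => rfl }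
  map_one' := by ext f x; simp
  map_mul' q q' := by ext f x; simp [mul_assoc]

theorem shift_apply (M : Type u) [Group M] (q : Q) (f : Q → M) (x : Q) :
    shift M q f x = f (x * q) := rfl

/-- The regular wreath product. -/
abbrev Wr (Q M : Type u) [Group Q] [Group M] := (Q → M) ⋊[shift (Q := Q) M] Q

noncomputable instance wrFintype [Fintype Q] [DecidableEq Q] (M : Type u) [Group M] [Fintype M] :
    Fintype (Wr Q M) :=
  Fintype.ofEquiv _ SemidirectProduct.equivProd.symm

variable {M : Type u} [Group M]

theorem conj_inl (b : Q → M) (q : Q) (f : Q → M) :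
    (⟨b, q⟩ : Wr Q M)⁻¹ * SemidirectProduct.inl f * ⟨b, q⟩ =
      SemidirectProduct.inl (shift M q⁻¹ (b⁻¹ * f * b)) := by
  apply SemidirectProduct.ext
  · simp [map_mul]
  · simp

theorem not_mem_range_inl {w : Wr Q M} (hw : w.right ≠ 1) (x : Wr Q M) :
    x⁻¹ * w * x ∉ (SemidirectProduct.inl : (Q → M) →* Wr Q M).range := by
  rintro ⟨f, hf⟩
  have h := congrArg SemidirectProduct.right hf
  simp only [SemidirectProduct.right_inl, SemidirectProduct.mul_right,
    SemidirectProduct.inv_right] at h
  apply hw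
  have h2 : w.right = x.right * 1 * x.right⁻¹ := by rw [h]; group
  simpa using h2

theorem sum_wr [Fintype Q] [DecidableEq Q] [Fintype M] (F : Wr Q M → ℂ) :
    ∑ x : Wr Q M, F x = ∑ b : Q → M, ∑ q : Q, F ⟨b, q⟩ := by
  rw [← Fintype.sum_prod_type']
  exact Fintype.sum_equiv SemidirectProduct.equivProd _ _ (fun x => rfl)

theorem tens_shift [Fintype Q] [DecidableEq Q] [Fintype M] (θ : Q → M → ℂ) (q : Q) (f : Q → M) :
    tens θ (shift M q f) = tens (fun x => θ (x * q⁻¹)) f := by
  rw [tens_apply, tens_apply]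
  refine Fintype.prod_equiv (Equiv.mulRight q) _ _ (fun x => ?_)
  simp [shift_apply]

/-- Restriction to the base group of a function induced from the base group. -/
theorem ind_inl_inl [Fintype Q] [DecidableEq Q] [Fintype M] (ψ : (Q → M) → ℂ)
    (hψ : IsClassFunction (Q → M) ψ) (f : Q → M) :
    ind (SemidirectProduct.inl : (Q → M) →* Wr Q M) ψ (SemidirectProduct.inl f) =
      ∑ q : Q, ψ (shift M q f) := by
  have hN : (Nat.card (Q → M) : ℂ) ≠ 0 := (neZero_card_complex (Q → M)).out
  rw [ind_apply, sum_wr]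
  have h1 : ∀ (b : Q → M) (q : Q),
      ext (SemidirectProduct.inl : (Q → M) →* Wr Q M) ψ
        ((⟨b, q⟩ : Wr Q M)⁻¹ * SemidirectProduct.inl f * ⟨b, q⟩) = ψ (shift M q⁻¹ f) := by
    intro b q
    rw [conj_inl, ext_apply SemidirectProduct.inl_injective, map_mul, map_mul, map_inv]
    have := hψ (shift M q⁻¹ f) ((shift M q⁻¹ b)⁻¹)
    rwa [inv_inv] at this
  simp only [h1]
  rw [Finset.sum_const, Finset.card_univ, nsmul_eq_mul, ← Nat.card_eq_fintype_card, ← mul_assoc,
    inv_mul_cancel₀ hN, one_mul]
  exact Fintype.sum_equiv (Equiv.inv Q) _ _ (fun q => rfl)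

theorem classInner_ind_tensIrr [Fintype Q] [DecidableEq Q] [Fintype M] (θ : Q → IrrCharacter M) :
    classInner (ind (SemidirectProduct.inl : (Q → M) →* Wr Q M) (tensIrr θ))
      (ind (SemidirectProduct.inl : (Q → M) →* Wr Q M) (tensIrr θ)) =
      ∑ q : Q, if θ = (fun x => θ (x * q⁻¹)) then (1 : ℂ) else 0 := by
  classical
  have hcl : IsClassFunction (Q → M) (tensIrr θ) :=
    isClassFunction_of_isCharacter (isCharacter_of_isIrrCharacter (isIrrCharacter_tensIrr θ))
  rw [classInner_ind SemidirectProduct.inl_injective _ _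
    (ind_isClassFunction SemidirectProduct.inl_injective _)]
  have h1 : (fun f : Q → M => ind (SemidirectProduct.inl : (Q → M) →* Wr Q M) (tensIrr θ)
      (SemidirectProduct.inl f)) = ∑ q : Q, tensIrr (fun x => θ (x * q⁻¹)) := by
    funext f
    rw [ind_inl_inl _ hcl, Finset.sum_apply]
    refine Finset.sum_congr rfl fun q _ => ?_
    exact tens_shift _ q f
  rw [h1, classInner_sum_right]
  refine Finset.sum_congr rfl fun q _ => ?_
  rw [classInner_tensIrr]

theorem isIrr_ind_of_not_const [Fintype Q] [DecidableEq Q] [Fintype M]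
    [Fact (Nat.card Q).Prime] (θ : Q → IrrCharacter M) (hθ : ¬ ∀ x, θ x = θ 1) :
    IsIrrCharacter (Wr Q M) (ind (SemidirectProduct.inl : (Q → M) →* Wr Q M) (tensIrr θ)) := by
  classical
  apply isIrrCharacter_of_norm_one
  · exact isCharacter_ind SemidirectProduct.inl_injective
      (isCharacter_of_isIrrCharacter (isIrrCharacter_tensIrr θ))
  · rw [classInner_ind_tensIrr]
    let S : Subgroup Q :=
      { carrier := {q | ∀ x, θ (x * q⁻¹) = θ x}
        mul_mem' := by
          intro a b ha hb x
          have h1 := ha (x * b⁻¹)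
          have h2 := hb x
          rw [mul_inv_rev, ← mul_assoc, h1, h2]
        one_mem' := by intro x; simp
        inv_mem' := by
          intro a ha x
          have h1 := ha (x * a)
          rw [inv_inv]
          rw [mul_inv_cancel_right] at h1
          exact h1.symm }
    have hS : ∀ q : Q, q ∈ S ↔ θ = (fun x => θ (x * q⁻¹)) := by
      intro q
      constructor
      · intro h; funext x; exact (h x).symm
      · intro h x; exact (congrFun h x).symm
    have hStop : S ≠ ⊤ := by
      intro htop
      apply hθ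
      intro x
      have hx : x⁻¹ ∈ S := htop ▸ Subgroup.mem_top _
      have := hx 1
      rw [inv_inv, one_mul] at this
      exact this
    have hSbot : S = ⊥ := (Subgroup.eq_bot_or_eq_top_of_prime_card S).resolve_right hStop
    have h2 : ∀ q : Q, (if θ = (fun x => θ (x * q⁻¹)) then (1 : ℂ) else 0) =
        if q = 1 then 1 else 0 := by
      intro q
      have : θ = (fun x => θ (x * q⁻¹)) ↔ q = 1 := by
        rw [← hS, hSbot, Subgroup.mem_bot]
      simp only [this]
    simp only [h2]
    rw [Finset.sum_ite_eq' Finset.univ 1 (fun _ => (1 : ℂ)), if_pos (Finset.mem_univ _)]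

/-- Functoriality of the wreath product in the base. -/
theorem pmap_shift {L : Type u} [Group L] [Fintype Q] [DecidableEq Q] (i : L →* M) (g : Q) :
    (pmap (fun _ : Q => i)).comp (shift L g).toMonoidHom =
      ((shift M (MonoidHom.id Q g)).toMonoidHom).comp (pmap (fun _ : Q => i)) := by
  ext l x
  rfl

def wmap {L : Type u} [Group L] [Fintype Q] [DecidableEq Q] (i : L →* M) : Wr Q L →* Wr Q M :=
  SemidirectProduct.map (pmap (fun _ : Q => i)) (MonoidHom.id Q) (pmap_shift i)

theorem wmap_left {L : Type u} [Group L] [Fintype Q] [DecidableEq Q] (i : L →* M) (a : Wr Q L) :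
    (wmap i a).left = pmap (fun _ : Q => i) a.left := rfl

theorem wmap_right {L : Type u} [Group L] [Fintype Q] [DecidableEq Q] (i : L →* M) (a : Wr Q L) :
    (wmap i a).right = a.right := rfl

theorem wmap_mk {L : Type u} [Group L] [Fintype Q] [DecidableEq Q] (i : L →* M) (l : Q → L)
    (q : Q) : wmap i (⟨l, q⟩ : Wr Q L) = ⟨pmap (fun _ : Q => i) l, q⟩ := rfl

theorem wmap_injective {L : Type u} [Group L] [Fintype L] [Fintype Q] [DecidableEq Q] (i : L →* M)
    (hi : Function.Injective i) : Function.Injective (wmap (Q := Q) i) := by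
  intro a b h
  have h1 := congrArg SemidirectProduct.left h
  have h2 := congrArg SemidirectProduct.right h
  rw [wmap_left, wmap_left] at h1
  rw [wmap_right, wmap_right] at h2
  exact SemidirectProduct.ext (pmap_injective _ (fun _ => hi) h1) h2

/-- The extension of a shift-invariant linear character of the base group. -/
noncomputable def mu {L : Type u} [Group L] [Fintype L] [Fintype Q] [DecidableEq Q] (lam : L →* ℂˣ)
    (ν : Q →* ℂˣ) : Wr Q L →* ℂˣ :=
  SemidirectProduct.lift (homProd (fun _ : Q => lam)) ν (by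
    intro g
    ext l
    simp only [MonoidHom.coe_comp, MulEquiv.coe_toMonoidHom, Function.comp_apply,
      MulAut.conj_apply, mul_inv_cancel_comm]
    rw [homProd_apply, homProd_apply]
    exact tens_shift _ g l)

theorem mu_mk {L : Type u} [Group L] [Fintype L] [Fintype Q] [DecidableEq Q] (lam : L →* ℂˣ)
    (ν : Q →* ℂˣ) (l : Q → L) (q : Q) :
    mu lam ν (⟨l, q⟩ : Wr Q L) = homProd (fun _ : Q => lam) l * ν q := rfl

section Inv

variable [Fintype Q] [DecidableEq Q] [Fintype M] {L : Type u} [Group L] [Fintype L]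

/-- The extension by zero of the product character is shift-invariant. -/
theorem ext_pmap_shift (i : L →* M) (hi : Function.Injective i) (lam : L →* ℂˣ) (q : Q)
    (g : Q → M) :
    ext (pmap (fun _ : Q => i)) (fun l => ((homProd (fun _ : Q => lam) l : ℂˣ) : ℂ))
        (shift M q g) =
      ext (pmap (fun _ : Q => i)) (fun l => ((homProd (fun _ : Q => lam) l : ℂˣ) : ℂ)) g := by
  have e : (fun l : Q → L => ((homProd (fun _ : Q => lam) l : ℂˣ) : ℂ)) =
      tens (fun (_ : Q) (k : L) => ((lam k : ℂˣ) : ℂ)) := funext (homProd_apply _)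
  rw [e, ext_pmap _ (fun _ => hi), ext_pmap _ (fun _ => hi)]
  refine Fintype.prod_equiv (Equiv.mulRight q) _ _ (fun x => ?_)
  simp [shift_apply]

theorem ext_wmap_inl (i : L →* M) (hi : Function.Injective i) (lam : L →* ℂˣ) (ν : Q →* ℂˣ)
    (g : Q → M) :
    ext (wmap (Q := Q) i) (fun k => ((mu lam ν k : ℂˣ) : ℂ)) (SemidirectProduct.inl g) =
      ext (pmap (fun _ : Q => i)) (fun l => ((homProd (fun _ : Q => lam) l : ℂˣ) : ℂ)) g := by
  by_cases hg : g ∈ (pmap (fun _ : Q => i)).range
  · obtain ⟨l, rfl⟩ := hg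
    rw [ext_apply (pmap_injective _ (fun _ => hi))]
    have h1 : (SemidirectProduct.inl (pmap (fun _ : Q => i) l) : Wr Q M) =
        wmap i (SemidirectProduct.inl l) := rfl
    rw [h1, ext_apply (wmap_injective i hi)]
    have h2 : mu lam ν (SemidirectProduct.inl l : Wr Q L) = homProd (fun _ : Q => lam) l := by
      unfold mu
      rw [SemidirectProduct.lift_inl]
    rw [h2]
  · rw [ext_of_not_mem _ _ hg, ext_of_not_mem]
    rintro ⟨k, hk⟩
    apply hg
    have h1 := congrArg SemidirectProduct.left hk
    rw [wmap_left, SemidirectProduct.left_inl] at h1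
    exact ⟨k.left, h1⟩

/-- Restriction to the base group of the induced extension. -/
theorem ind_wmap_inl (i : L →* M) (hi : Function.Injective i) (lam : L →* ℂˣ) (ν : Q →* ℂˣ)
    (f : Q → M) :
    ind (wmap (Q := Q) i) (fun k => ((mu lam ν k : ℂˣ) : ℂ)) (SemidirectProduct.inl f) =
      ind (pmap (fun _ : Q => i)) (fun l => ((homProd (fun _ : Q => lam) l : ℂˣ) : ℂ)) f := by
  have hQ : (Nat.card Q : ℂ) ≠ 0 := (neZero_card_complex Q).out
  have hL : (Nat.card (Q → L) : ℂ) ≠ 0 := (neZero_card_complex (Q → L)).out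
  rw [ind_apply, ind_apply, sum_wr]
  have h1 : ∀ (b : Q → M) (q : Q),
      ext (wmap (Q := Q) i) (fun k => ((mu lam ν k : ℂˣ) : ℂ))
        ((⟨b, q⟩ : Wr Q M)⁻¹ * SemidirectProduct.inl f * ⟨b, q⟩) =
      ext (pmap (fun _ : Q => i)) (fun l => ((homProd (fun _ : Q => lam) l : ℂˣ) : ℂ))
        (b⁻¹ * f * b) := by
    intro b q
    rw [conj_inl, ext_wmap_inl i hi, ext_pmap_shift i hi]
  simp only [h1, Finset.sum_const, Finset.card_univ, nsmul_eq_mul]
  rw [← Finset.mul_sum, SemidirectProduct.card, Nat.cast_mul, ← Nat.card_eq_fintype_card]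
  field_simp

/-- The sum over the dual of `Q` of the induced extensions is a multiple of the character induced
from the base group. -/
theorem sum_ind_mu (hcomm : ∀ a b : Q, a * b = b * a) [Fintype (Q →* ℂˣ)] (i : L →* M)
    (hi : Function.Injective i) (lam : L →* ℂˣ) (w : Wr Q M) :
    ∑ ν : Q →* ℂˣ, ind (wmap (Q := Q) i) (fun k => ((mu lam ν k : ℂˣ) : ℂ)) w =
      (Fintype.card (Q →* ℂˣ) : ℂ) * ((Nat.card (Wr Q L) : ℂ)⁻¹ * (Nat.card (Q → L) : ℂ)) *
        ind (SemidirectProduct.inl : (Q → M) →* Wr Q M)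
          (ind (pmap (fun _ : Q => i)) (fun l => ((homProd (fun _ : Q => lam) l : ℂˣ) : ℂ))) w := by
  classical
  rw [← ind_sum Finset.univ (wmap_injective i hi)]
  have hsum : ∀ q : Q, q ≠ 1 → ∑ ν : Q →* ℂˣ, ((ν q : ℂˣ) : ℂ) = 0 := by
    intro q hq
    have h := Cfsg.Agent.H32.sum_dual_eq_zero hcomm (⊥ : Subgroup Q) (x := q)
      (by rwa [Subgroup.mem_bot])
    rw [Finset.filter_true_of_mem] at h
    · exact h
    · intro φ _ y hy
      rw [Subgroup.mem_bot] at hy
      rw [hy, map_one]
  have hfun : (fun k : Wr Q L => ∑ ν : Q →* ℂˣ, ((mu lam ν k : ℂˣ) : ℂ)) =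
      fun k => (Fintype.card (Q →* ℂˣ) : ℂ) *
        ext (SemidirectProduct.inl : (Q → L) →* Wr Q L)
          (fun l => ((homProd (fun _ : Q => lam) l : ℂˣ) : ℂ)) k := by
    funext k
    obtain ⟨l, q⟩ := k
    simp only [mu_mk, Units.val_mul]
    rw [← Finset.mul_sum]
    by_cases hq : q = 1
    · subst hq
      have h1 : (⟨l, 1⟩ : Wr Q L) = SemidirectProduct.inl l := rfl
      rw [h1, ext_apply SemidirectProduct.inl_injective]
      simp only [map_one, Units.val_one, Finset.sum_const, Finset.card_univ, nsmul_eq_mul,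
        mul_one]
      ring
    · rw [hsum q hq, mul_zero, ext_of_not_mem, mul_zero]
      rintro ⟨l', hl'⟩
      have := congrArg SemidirectProduct.right hl'
      rw [SemidirectProduct.right_inl] at this
      exact hq this.symm
  rw [hfun, ind_smul (wmap_injective i hi),
    ind_ext SemidirectProduct.inl_injective (wmap_injective i hi),
    ind_ind (pmap_injective _ (fun _ => hi)) SemidirectProduct.inl_injective]
  have hcomp : (wmap (Q := Q) i).comp (SemidirectProduct.inl : (Q → L) →* Wr Q L) =
      (SemidirectProduct.inl : (Q → M) →* Wr Q M).comp (pmap (fun _ : Q => i)) :=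
    SemidirectProduct.map_comp_inl _ _ _
  rw [hcomp]
  ring

end Inv

/-- The wreath product of an M-group with a group of prime order is an M-group. -/
theorem isM_wr [Fintype Q] [DecidableEq Q] [Fintype M] [Fact (Nat.card Q).Prime]
    (hM : IsM M) : IsM (Wr Q M) := by
  classical
  intro χ hχ
  have hχc : IsCharacter (Wr Q M) χ := isCharacter_of_isIrrCharacter hχ
  have hres : IsCharacter (Q → M)
      (fun f => χ ((SemidirectProduct.inl : (Q → M) →* Wr Q M) f)) :=
    isCharacter_comp SemidirectProduct.inl hχc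
  obtain ⟨ψ, hψ⟩ : ∃ ψ : IrrCharacter (Q → M),
      classInner (fun f => χ ((SemidirectProduct.inl : (Q → M) →* Wr Q M) f)) ψ.1 ≠ 0 := by
    by_contra hcon
    push Not at hcon
    have h0 := eq_zero_of_inner_irr_eq_zero (isClassFunction_of_isCharacter hres) hcon
    have h1 := congrFun h0 1
    simp only [map_one, Pi.zero_apply] at h1
    exact irr_one_ne_zero (⟨χ, hχ⟩ : IrrCharacter (Wr Q M)) h1
  obtain ⟨θ, hθ⟩ := exists_tensIrr ψ.2
  have hinner : classInner (ind (SemidirectProduct.inl : (Q → M) →* Wr Q M) (tensIrr θ)) χ ≠ 0 := by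
    rw [classInner_ind SemidirectProduct.inl_injective _ _ (isClassFunction_of_isCharacter hχc),
      ← hθ]
    intro h0
    apply hψ
    rw [← classInner_conj_symm, h0, map_zero]
  choose H lam hlam using fun q => hM (θ q).1 (θ q).2
  have hten : tensIrr θ = ind (pmap (fun q => (H q).subtype))
      (fun l => ((homProd lam l : ℂˣ) : ℂ)) := by
    unfold tensIrr
    have e1 : (fun q => ((θ q : IrrCharacter M) : M → ℂ)) =
        fun q => ind (H q).subtype (fun h => ((lam q h : ℂˣ) : ℂ)) := by
      funext q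
      rw [hlam q]
      rfl
    rw [e1, tens_ind _ (fun q => Subtype.val_injective)]
    congr 1
    funext l
    exact (homProd_apply lam l).symm
  by_cases hconst : ∀ x, θ x = θ 1
  · -- the invariant case
    have hcomm : ∀ a b : Q, a * b = b * a := by
      haveI : IsCyclic Q := isCyclic_of_prime_card (p := Nat.card Q) rfl
      exact fun a b => isCyclic_comm a b
    haveI : Finite (Q →* ℂˣ) := (Cfsg.Agent.H80.card_hom_of_comm Q hcomm).1
    letI : Fintype (Q →* ℂˣ) := Fintype.ofFinite _
    have hθc : θ = fun _ => θ 1 := funext hconst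
    have hten' : tensIrr θ = ind (pmap (fun _ : Q => (H 1).subtype))
        (fun l => ((homProd (fun _ : Q => lam 1) l : ℂˣ) : ℂ)) := by
      unfold tensIrr
      have e1 : (fun q => ((θ q : IrrCharacter M) : M → ℂ)) =
          fun _ => ind (H 1).subtype (fun h => ((lam 1 h : ℂˣ) : ℂ)) := by
        funext q
        rw [hconst q, hlam 1]
        rfl
      rw [e1, tens_ind _ (fun q => Subtype.val_injective)]
      congr 1
      funext l
      exact (homProd_apply _ l).symm
    have hi : Function.Injective (H 1).subtype := Subtype.val_injective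
    set χν : (Q →* ℂˣ) → Wr Q M → ℂ := fun ν =>
      ind (wmap (Q := Q) (H 1).subtype) (fun k => ((mu (lam 1) ν k : ℂˣ) : ℂ)) with hχν
    have hirr : ∀ ν, IsIrrCharacter (Wr Q M) (χν ν) := by
      intro ν
      apply isIrrCharacter_of_comp (SemidirectProduct.inl : (Q → M) →* Wr Q M)
      · exact isCharacter_ind (wmap_injective _ hi) (isCharacter_of_hom _)
      · have e : (fun f : Q → M => χν ν ((SemidirectProduct.inl : (Q → M) →* Wr Q M) f)) =
            tensIrr θ := by
          rw [hten']
          funext f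
          exact ind_wmap_inl _ hi _ _ f
        rw [e]
        exact isIrrCharacter_tensIrr θ
    have hsum : (∑ ν : Q →* ℂˣ, χν ν) =
        ((Fintype.card (Q →* ℂˣ) : ℂ) *
          ((Nat.card (Wr Q ↥(H 1)) : ℂ)⁻¹ * (Nat.card (Q → ↥(H 1)) : ℂ))) •
          ind (SemidirectProduct.inl : (Q → M) →* Wr Q M) (tensIrr θ) := by
      funext w
      rw [Finset.sum_apply, Pi.smul_apply, smul_eq_mul, hten']
      exact sum_ind_mu hcomm _ hi _ w
    have hc : ((Fintype.card (Q →* ℂˣ) : ℂ) *
        ((Nat.card (Wr Q ↥(H 1)) : ℂ)⁻¹ * (Nat.card (Q → ↥(H 1)) : ℂ))) ≠ 0 := by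
      have h1 : (Fintype.card (Q →* ℂˣ) : ℂ) ≠ 0 := by
        exact_mod_cast Fintype.card_ne_zero
      have h2 : (Nat.card (Wr Q ↥(H 1)) : ℂ) ≠ 0 := (neZero_card_complex _).out
      have h3 : (Nat.card (Q → ↥(H 1)) : ℂ) ≠ 0 := (neZero_card_complex _).out
      exact mul_ne_zero h1 (mul_ne_zero (inv_ne_zero h2) h3)
    have hne : classInner (∑ ν : Q →* ℂˣ, χν ν) χ ≠ 0 := by
      rw [hsum, classInner_smul_left]
      exact mul_ne_zero hc hinner
    rw [classInner_sum_left] at hne
    obtain ⟨ν, -, hν⟩ := Finset.exists_ne_zero_of_sum_ne_zero hne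
    have heq : χν ν = χ := by
      have h := irr_inner (⟨_, hirr ν⟩ : IrrCharacter (Wr Q M)) ⟨χ, hχ⟩
      by_contra hne'
      rw [if_neg (fun h' => hne' (congrArg Subtype.val h'))] at h
      exact hν h
    rw [← heq]
    exact ind_hom_monomial (wmap_injective _ hi) (mu (lam 1) ν)
  · -- the non-invariant case
    have hirr := isIrr_ind_of_not_const θ hconst
    have heq : ind (SemidirectProduct.inl : (Q → M) →* Wr Q M) (tensIrr θ) = χ := by
      have h := irr_inner (⟨_, hirr⟩ : IrrCharacter (Wr Q M)) ⟨χ, hχ⟩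
      by_contra hne
      rw [if_neg (fun h' => hne (congrArg Subtype.val h'))] at h
      exact hinner h
    rw [← heq, hten,
      ind_ind (pmap_injective _ (fun q => Subtype.val_injective)) SemidirectProduct.inl_injective]
    have hinj : Function.Injective ((SemidirectProduct.inl : (Q → M) →* Wr Q M).comp
        (pmap (fun q => (H q).subtype))) := by
      rw [MonoidHom.coe_comp]
      exact SemidirectProduct.inl_injective.comp
        (pmap_injective _ (fun q => Subtype.val_injective))
    exact ind_hom_monomial hinj (homProd lam)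

end Wr

end Cfsg.Agent.H81.Dade
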