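import Mathlib
import Cfsg.Prelude.Def_Characters
import Cfsg.Agent.H1.Basic
import Cfsg.Agent.H81.DadeWr

set_option autoImplicit false
set_option linter.unusedSectionVars false
set_option linter.style.haveILetI false

/-!
# Dade's theorem: every finite solvable group embeds in an M-group
-/

namespace Cfsg.Agent.H81.Dade

open Cfsg Cfsg.Agent.H4
open scoped ComplexConjugate

universe u

section Embed

variable {G : Type u} [Group G] (N : Subgroup G) [N.Normal]

theorem coc_mem (g : G) (x : G ⧸ N) :
    x.out * g * (x * (g : G ⧸ N)).out⁻¹ ∈ N := by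
  have h1 : ((x.out * g : G) : G ⧸ N) = (((x * (g : G ⧸ N)).out : G) : G ⧸ N) := by
    rw [QuotientGroup.mk_mul, QuotientGroup.out_eq', QuotientGroup.out_eq']
  have h2 := QuotientGroup.eq.mp h1
  have h3 := Subgroup.Normal.conj_mem ‹N.Normal› _ (N.inv_mem h2) (x.out * g)
  have e : x.out * g * ((x.out * g)⁻¹ * (x * (g : G ⧸ N)).out)⁻¹ * (x.out * g)⁻¹ =
      x.out * g * (x * (g : G ⧸ N)).out⁻¹ := by group
  rwa [e] at h3

/-- The Kaluzhnin–Krasner cocycle. -/
noncomputable def coc (g : G) (x : G ⧸ N) : N :=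
  ⟨x.out * g * (x * (g : G ⧸ N)).out⁻¹, coc_mem N g x⟩

theorem coc_mul (g g' : G) (x : G ⧸ N) :
    coc N (g * g') x = coc N g x * coc N g' (x * (g : G ⧸ N)) := by
  apply Subtype.ext
  have h : x * ((g * g' : G) : G ⧸ N) = x * (g : G ⧸ N) * (g' : G ⧸ N) := by
    rw [QuotientGroup.mk_mul, mul_assoc]
  simp only [coc, Subgroup.coe_mul]
  rw [h]
  group

variable {M : Type u} [Group M]

/-- The embedding of `G` into the wreath product of (an overgroup of) `N` by `G ⧸ N`. -/
noncomputable def emb (ι : N →* M) : G →* Wr (G ⧸ N) M :=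
  MonoidHom.mk' (fun g => (⟨fun x => ι (coc N g x), (g : G ⧸ N)⟩ : Wr (G ⧸ N) M)) (by
    intro g g'
    apply SemidirectProduct.ext
    · funext x
      simp only [SemidirectProduct.mul_left, Pi.mul_apply, shift_apply]
      rw [coc_mul, map_mul]
    · rfl)

theorem emb_apply (ι : N →* M) (g : G) :
    emb N ι g = (⟨fun x => ι (coc N g x), (g : G ⧸ N)⟩ : Wr (G ⧸ N) M) := rfl

theorem emb_injective (ι : N →* M) (hι : Function.Injective ι) :
    Function.Injective (emb N ι) := by
  rw [injective_iff_map_eq_one]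
  intro g hg
  rw [emb_apply] at hg
  have h1 : (g : G ⧸ N) = 1 := congrArg SemidirectProduct.right hg
  have h2 : (fun x => ι (coc N g x)) = (1 : G ⧸ N → M) := congrArg SemidirectProduct.left hg
  have h3 : coc N g 1 = 1 := hι (by rw [map_one]; exact congrFun h2 1)
  have h4 : (1 : G ⧸ N).out * g * ((1 : G ⧸ N) * (g : G ⧸ N)).out⁻¹ = 1 :=
    congrArg Subtype.val h3
  rw [h1, one_mul] at h4
  have h5 : g = (1 : G ⧸ N).out⁻¹ * ((1 : G ⧸ N).out * g * (1 : G ⧸ N).out⁻¹) *
      (1 : G ⧸ N).out := by group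
  rw [h5, h4]
  group

end Embed

theorem isM_of_subsingleton (G : Type u) [Group G] [Fintype G] [Subsingleton G] : IsM G := by
  intro χ hχ
  have hone : ∀ g : G, g = 1 := fun g => Subsingleton.elim g 1
  have h1 : χ 1 = 1 := by
    obtain ⟨n, hn0, hn⟩ := irr_one_eq_natCast (⟨χ, hχ⟩ : IrrCharacter G)
    have hs := irr_inner_self (⟨χ, hχ⟩ : IrrCharacter G)
    unfold classInner at hs
    rw [Nat.card_of_subsingleton (1 : G), Fintype.sum_eq_single 1 (fun g hg => absurd (hone g) hg)]
      at hs
    change ((1 : ℕ) : ℂ)⁻¹ * (χ 1 * (starRingEnd ℂ) (χ 1)) = 1 at hs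
    simp only at hn
    rw [hn, Complex.conj_natCast] at hs
    have h2 : n * n = 1 := by
      have : ((n * n : ℕ) : ℂ) = 1 := by push_cast; simpa using hs
      exact_mod_cast this
    have h3 : n = 1 := by nlinarith
    rw [hn, h3, Nat.cast_one]
  obtain ⟨lam, hl⟩ := exists_hom_of_linear (isCharacter_of_isIrrCharacter hχ) h1
  refine ⟨⊤, lam.comp (⊤ : Subgroup G).subtype, ?_⟩
  funext g
  haveI : Subsingleton (⊤ : Subgroup G) := ⟨fun a b => Subtype.ext (Subsingleton.elim _ _)⟩
  rw [indFun_apply, Nat.card_of_subsingleton (1 : (⊤ : Subgroup G)),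
    Fintype.sum_eq_single 1 (fun x hx => absurd (hone x) hx),
    extendByZero_of_mem _ _ (Subgroup.mem_top _), hl]
  simp [hone g]

/-- Dade's theorem, by induction on the order. -/
theorem exists_embedding (n : ℕ) : ∀ (G : Type u) [Group G] [Finite G], Group.IsSolvable G →
    Nat.card G = n →
    ∃ (M : Type u) (_ : Group M) (_ : Fintype M), IsM M ∧ ∃ f : G →* M, Function.Injective f := by
  induction n using Nat.strong_induction_on with
  | _ n ih =>
    intro G _ _ hsolv hcard
    by_cases htriv : Subsingleton G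
    · letI : Fintype G := Fintype.ofFinite G
      exact ⟨G, inferInstance, inferInstance, isM_of_subsingleton G, MonoidHom.id G,
        Function.injective_id⟩
    · haveI : Nontrivial G := not_subsingleton_iff_nontrivial.mp htriv
      haveI := hsolv
      obtain ⟨N, hN, hp⟩ := Cfsg.Agent.H1.exists_normal_prime_index G
      haveI := hN
      have hNcard : Nat.card N < n := by
        have h1 := Subgroup.card_mul_index N
        have h2 := hp.two_le
        rw [hcard] at h1
        have hpos : 0 < Nat.card N := Nat.card_pos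
        nlinarith
      obtain ⟨M, iM, fM, hMM, ι, hι⟩ := ih (Nat.card N) hNcard N inferInstance rfl
      letI := iM
      letI := fM
      letI : Fintype (G ⧸ N) := Fintype.ofFinite _
      haveI : Fact (Nat.card (G ⧸ N)).Prime := ⟨by rw [← Subgroup.index_eq_card]; exact hp⟩
      classical
      exact ⟨Wr (G ⧸ N) M, inferInstance, inferInstance, isM_wr hMM, emb N ι,
        emb_injective N ι hι⟩

end Cfsg.Agent.H81.Dade
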