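import Cfsg.Agent.H81.ExDefs

/-!
# Existence of `J(T)`-components: assembly of the pieces
-/

set_option autoImplicit false
open Cfsg
open Cfsg.Agent.H52.Sn

namespace Cfsg.Agent.H81.Ex

universe u

/-- The existence statement inside `X = ↥L`, from the pieces. -/
theorem exX (hRed : StRed.{u}) (hCM : StCM.{u}) (hGLP : StGLP.{u}) (hGLT : StGLT.{u})
    (hNT : StNT.{u}) (hPU : StPrepU.{u}) (hPJ : StPrepJ.{u}) (hMin : StMin.{u}) (hP3 : StP3.{u})
    (hK : StK.{u}) (hWne : StWne.{u}) (hGlue : StGlue.{u}) : StExX.{u} := by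
  intro X _ _ T V J _ hV hsol hT hTi hQV hCT hJT hJM hJQ
  obtain ⟨hQn, hQ2, hQT, hVQ, hMn⟩ := hGlue T V hV hT hTi
  obtain ⟨hred1, hred2⟩ := hRed T V hT hTi hQV hCT
  have hCn : (Subgroup.centralizer (V : Set X)).Normal := inferInstance
  have hcm := hCM T (Subgroup.centralizer (V : Set X)) (pCore 2 X) hT hTi hCn hQn hred2 hCT
  have hglp := hGLP T V hV hsol hT hTi hQV hCT
  have hglt := hGLT V hV hsol hred1
  have hJ2 : IsPGroup 2 ↥J := hT.to_le hJT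
  have hJC : ¬ J ≤ Subgroup.centralizer (V : Set X) :=
    fun h => hJQ ((le_inf hJT h).trans hred2)
  obtain ⟨u, huM, huo, j, hj, huj⟩ :=
    hNT (Subgroup.centralizer (V : Set X)) (thompsonSubgroup 2 X) J hMn hred1 hJ2 hJM hJC
  obtain ⟨hUn, hUab, hUodd, hU6⟩ :=
    hPU (pCore 2 X) (Subgroup.centralizer (V : Set X)) (thompsonSubgroup 2 X) hQn hCn hMn hQV
      hglp hglt
  obtain ⟨hJsq, hJab⟩ :=
    hPJ (pCore 2 X) (Subgroup.centralizer (V : Set X)) (thompsonSubgroup 2 X) J hJ2 hJM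
      ((inf_le_inf_right _ hJT).trans hred2) hglt
  have huU : u ∈ oddHull (pCore 2 X) (thompsonSubgroup 2 X) := by
    unfold oddHull
    exact (le_sup_right : Subgroup.closure {g : X | g ∈ thompsonSubgroup 2 X ∧ Odd (orderOf g)} ≤
      pCore 2 X ⊔ Subgroup.closure {g : X | g ∈ thompsonSubgroup 2 X ∧ Odd (orderOf g)})
      (Subgroup.subset_closure ⟨huM, huo⟩)
  have hQU : pCore 2 X ≤ oddHull (pCore 2 X) (thompsonSubgroup 2 X) := by
    unfold oddHull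
    exact le_sup_left
  obtain ⟨N, hQN, hNU, hJN, hpr, x, hx, j', hj', hxj⟩ :=
    hMin (pCore 2 X) (oddHull (pCore 2 X) (thompsonSubgroup 2 X)) J hQn hQU hUn hUab hUodd
      hJsq hJab ⟨u, huU, j, hj, fun h => huj (hQV h)⟩
  have hCJ : ∀ c ∈ Subgroup.centralizer (V : Set X), ∀ j ∈ J,
      c * j * c⁻¹ * j⁻¹ ∈ pCore 2 X := by
    intro c hc j hj
    have := hcm (Subgroup.commutator_mem_commutator hc (hJM hj))
    rwa [commutatorElement_def] at this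
  obtain ⟨h3, hNC⟩ :=
    hP3 (pCore 2 X) (Subgroup.centralizer (V : Set X))
      (oddHull (pCore 2 X) (thompsonSubgroup 2 X)) N J hQn hQV hQN hNU hUodd hpr hU6 hCJ
      ⟨x, hx, j', hj', hxj⟩
  obtain ⟨K, hKN, hKgen, hKJ, hPQ, hP3', hQK, hKQN⟩ :=
    hK (pCore 2 X) N J hQn hQ2 hQN h3 hJN ⟨x, hx, j', hj', hxj⟩
  have hW := hWne V K hV (hVQ.trans hQK) (hPQ.trans hQV) hKgen
    (fun h => hNC (hKQN ▸ sup_le h hQV))
  exact ⟨K, hKgen, hKJ, hPQ, hP3', hW⟩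

/-- The existence statement, from the statement inside `↥L` and the transport pieces. -/
theorem ex (hX : StExX.{u}) (hSyl : StIfSyl.{u}) (hV : StIfV.{u}) (hZ : StIfZ.{u})
    (hS : StIfS.{u}) (hGlue : StGlue.{u}) (hUp : StUp.{u}) (hS4 : StSyl4.{u}) (hW : StW.{u}) :
    StEx.{u} := by
  intro G _ _ hL hNsol hZN T hT hT1 L hLT
  obtain ⟨hT2, hTi, hJT, hJM⟩ := hSyl T L hLT.1
  obtain ⟨hVn, hVel, hQV⟩ := hV L
  have hCT := hZ hZN T L hLT
  have hPS := hS hNsol T L hT1 hLT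
  have hJL : thompsonSubgroupOf 2 T ≤ L := by
    unfold Cfsg.thompsonSubgroupOf
    exact (Subgroup.map_subtype_le _).trans hLT.1.1
  have hJQ : ¬ (thompsonSubgroupOf 2 T).subgroupOf L ≤ pCore 2 ↥L := by
    intro h
    apply hLT.2.1
    have h1 := Subgroup.map_mono (f := L.subtype) h
    rw [Subgroup.map_subgroupOf_eq_of_le hJL] at h1
    exact h1
  obtain ⟨-, -, hQT', -, -⟩ :=
    hGlue (T.subgroupOf L) ((omegaCenterOf (pCoreOf 2 L)).subgroupOf L) hVel hT2 hTi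
  have hQT : pCoreOf 2 L ≤ T := by
    have h1 := Subgroup.map_mono (f := L.subtype) hQT'
    rw [Subgroup.map_subgroupOf_eq_of_le hLT.1.1] at h1
    exact h1
  obtain ⟨K', hKgen, hKJ, hPQ, hP3, hWne⟩ :=
    hX (T.subgroupOf L) ((omegaCenterOf (pCoreOf 2 L)).subgroupOf L)
      ((thompsonSubgroupOf 2 T).subgroupOf L) hVel hPS hT2 hTi hQV hCT hJT hJM hJQ
  obtain ⟨g1, g2, g3, g4, g5, g6⟩ :=
    hUp L (thompsonSubgroupOf 2 T) K' hJL hKgen hKJ hPQ hP3 hWne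
  have hPT : pCoreOf 2 (K'.map L.subtype) ≤ T := g3.trans hQT
  have h4 := hS4 T (K'.map L.subtype) hT hPT g4 g6
  obtain ⟨w1, w2⟩ := hW T (K'.map L.subtype) hT hPT g4 g2 g5
  exact ⟨K'.map L.subtype, ⟨g1, g2, g4, h4, w1, w2⟩, Subgroup.map_subtype_le _⟩

/-- Everything together. -/
theorem exAll (hRed : StRed.{u}) (hCM : StCM.{u}) (hGLP : StGLP.{u}) (hGLT : StGLT.{u})
    (hNT : StNT.{u}) (hPU : StPrepU.{u}) (hPJ : StPrepJ.{u}) (hMin : StMin.{u}) (hP3 : StP3.{u})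
    (hK : StK.{u}) (hWne : StWne.{u}) (hGlue : StGlue.{u})
    (hSyl : StIfSyl.{u}) (hV : StIfV.{u}) (hZ : StIfZ.{u}) (hS : StIfS.{u})
    (hUp : StUp.{u}) (hS4 : StSyl4.{u}) (hW : StW.{u}) : StEx.{u} :=
  ex (exX hRed hCM hGLP hGLT hNT hPU hPJ hMin hP3 hK hWne hGlue) hSyl hV hZ hS hGlue hUp hS4 hW

end Cfsg.Agent.H81.Ex
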