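import Mathlib
import Cfsg.Agent.H79.HcDefs
import Cfsg.Agent.H4.Irr
import Cfsg.Agent.H4.IrrCount
import Cfsg.Agent.Lib.Gallagher

/-!
# S4440 piece P21 (TRANSB): vanishing transfers to the central extension
-/

set_option autoImplicit false
set_option linter.style.haveILetI false

namespace Cfsg.Agent.H81.Hc

open Cfsg Cfsg.Agent.H79.Hc
open scoped ComplexConjugate

universe u

/-- (TRANSB) vanishing transfers to the central extension, from (TRANSA) and (NV). -/
theorem stmtTransB (p : ℕ) (hA : StmtTransA.{u}) (hNV : StmtNV.{u}) : StmtTransB.{u} p := by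
  intro G _ _ K _ _ θ Ĝ _ _ π θt ν hCE hcop U hU hUθ x hx
  classical
  have hsurj := hCE.surj
  set N : Subgroup Ĝ := K.comap π with hN
  haveI hNn : N.Normal := Subgroup.Normal.comap inferInstance π
  set Û : Set (IrrCharacter Ĝ) := liftSet K Ĝ π θt ν U with hÛ
  -- (NV) for `θt`
  have hnv : ∀ y : Ĝ, ∃ k : Ĝ, π k ∈ K ∧ θt (y * k) ≠ 0 := by
    intro y
    obtain ⟨n, hn, hne⟩ := hNV Ĝ N θt hCE.irr hCE.res_irr y
    exact ⟨n, hn, hne⟩
  have hinj : ∀ β β' : IrrCharacter Ĝ, β ∈ Û → β' ∈ Û →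
      (∀ y, (β : Ĝ → ℂ) y * θt y = (β' : Ĝ → ℂ) y * θt y) → β = β' := by
    intro β β' hβ hβ' h
    apply Subtype.ext
    funext y
    obtain ⟨k, hk, hne⟩ := hnv y
    have h1 := h (y * k)
    have h2 := mul_right_cancel₀ hne h1
    rw [hβ.1 y k hk, hβ'.1 y k hk] at h2
    exact mul_left_cancel₀ (inv_ne_zero (hCE.nu_ne k hk)) h2
  -- the key identity
  have hkey : ∀ y : Ĝ, wsum U (π y) = θt 1 * θt y * wsum Û y := by
    intro y
    rcases Set.eq_empty_or_nonempty U with hUe | ⟨χ₀, hχ₀⟩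
    · have hÛe : Û = ∅ := by
        rw [Set.eq_empty_iff_forall_notMem]
        rintro β ⟨-, χ, hχ, -⟩
        rw [hUe] at hχ
        exact hχ
      unfold wsum
      rw [hUe, hÛe]
      simp
    · let e : IrrCharacter Ĝ → IrrCharacter G := fun β =>
        if h : ∃ χ : IrrCharacter G, χ ∈ U ∧
            ∀ z : Ĝ, (χ : G → ℂ) (π z) = (β : Ĝ → ℂ) z * θt z then Classical.choose h else χ₀
      have he : ∀ β ∈ Û, e β ∈ U ∧
          ∀ z : Ĝ, (e β : G → ℂ) (π z) = (β : Ĝ → ℂ) z * θt z := by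
        intro β hβ
        have h : ∃ χ : IrrCharacter G, χ ∈ U ∧
            ∀ z : Ĝ, (χ : G → ℂ) (π z) = (β : Ĝ → ℂ) z * θt z := hβ.2
        simp only [e, dif_pos h]
        exact Classical.choose_spec h
      have hbij : Set.BijOn e Û U := by
        refine ⟨fun β hβ => (he β hβ).1, ?_, ?_⟩
        · intro β hβ β' hβ' hee
          apply hinj β β' hβ hβ'
          intro z
          rw [← (he β hβ).2 z, ← (he β' hβ').2 z, hee]
        · intro χ hχ
          obtain ⟨β, hβ1, hβ2⟩ := hA G K θ Ĝ π θt ν hCE χ (hUθ χ hχ)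
          have hβÛ : β ∈ Û := ⟨hβ2, χ, hχ, hβ1⟩
          refine ⟨β, hβÛ, ?_⟩
          apply Subtype.ext
          funext g
          obtain ⟨z, rfl⟩ := hsurj g
          rw [(he β hβÛ).2 z, hβ1 z]
      have h1 : ∑ᶠ β ∈ Û, (θt 1 * θt y) * ((β : Ĝ → ℂ) 1 * (β : Ĝ → ℂ) y) =
          ∑ᶠ χ ∈ U, (χ : G → ℂ) 1 * (χ : G → ℂ) (π y) := by
        refine finsum_mem_eq_of_bijOn e hbij (fun β hβ => ?_)
        have h2 := (he β hβ).2 1
        have h3 := (he β hβ).2 y
        rw [map_one] at h2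
        rw [h2, h3]
        ring
      unfold wsum
      rw [← h1, mul_finsum_mem]
  -- the singular element
  obtain ⟨k, hk, hne⟩ := hnv x
  have hsing : p ∣ orderOf (π (x * k)) := by
    set m := orderOf (π (x * k)) with hm
    have h1 : (π x) ^ m ∈ K := by
      have h2 : (QuotientGroup.mk' K) (π (x * k)) = (QuotientGroup.mk' K) (π x) := by
        have h2' : (QuotientGroup.mk' K) (π k) = 1 := (QuotientGroup.eq_one_iff (π k)).mpr hk
        rw [map_mul, map_mul, h2', mul_one]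
      have h3 : (QuotientGroup.mk' K) ((π x) ^ m) = 1 := by
        rw [map_pow, ← h2, ← map_pow, hm, pow_orderOf_eq_one, map_one]
      exact (QuotientGroup.eq_one_iff _).mp h3
    have h4 : ((π x) ^ m) ^ Nat.card K = 1 := by
      have h4' : (⟨(π x) ^ m, h1⟩ : K) ^ Nat.card K = 1 := pow_card_eq_one'
      have h4'' : (((⟨(π x) ^ m, h1⟩ : K) ^ Nat.card K : K) : G) = ((1 : K) : G) := by rw [h4']
      rw [Subgroup.coe_pow, Subgroup.coe_one] at h4''
      exact h4''
    have h5 : (x ^ m) ^ Nat.card K ∈ π.ker := by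
      rw [MonoidHom.mem_ker, map_pow, map_pow]
      exact h4
    have h6 := hCE.ker_exp _ h5
    have h7 : x ^ (m * Nat.card K * Nat.card K) = 1 := by
      rw [pow_mul, pow_mul]
      exact h6
    have h8 : orderOf x ∣ m * Nat.card K * Nat.card K := orderOf_dvd_of_pow_eq_one h7
    have h9 : p ∣ m * Nat.card K * Nat.card K := hx.trans h8
    have hcop' : p.Coprime (Nat.card K) := hcop.symm
    exact hcop'.dvd_of_dvd_mul_right (hcop'.dvd_of_dvd_mul_right h9)
  have h0 := hU (π (x * k)) hsing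
  rw [hkey] at h0
  have h1 : wsum Û (x * k) = (ν k)⁻¹ * wsum Û x := by
    unfold wsum
    rw [mul_finsum_mem]
    apply finsum_mem_congr rfl
    intro β hβ
    rw [hβ.1 x k hk]
    ring
  rw [h1] at h0
  have hθ1 : θt 1 ≠ 0 := Cfsg.Agent.Clifford.irr_one_ne_zero' hCE.irr
  have hν : (ν k)⁻¹ ≠ 0 := inv_ne_zero (hCE.nu_ne k hk)
  rcases mul_eq_zero.mp h0 with h | h
  · rcases mul_eq_zero.mp h with h | h
    · exact absurd h hθ1
    · exact absurd h hne
  · rcases mul_eq_zero.mp h with h | h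
    · exact absurd h hν
    · exact h

end Cfsg.Agent.H81.Hc
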