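import Mathlib
import Cfsg.Agent.H98.PsInstDefs

/-!
# S3664 piece PS-I-SYL (helper81, for helper98/helper7): if `p² ∤ |G|`, two elements of order `p`
are conjugate up to a power (Sylow conjugacy of the two cyclic Sylow `p`-subgroups)
-/

set_option autoImplicit false
set_option linter.style.haveILetI false

namespace Cfsg.Agent.H81.Ps

/-- PS-I-SYL -/
theorem syl : Cfsg.Agent.H98.Ps.StSyl := by
  intro G _ _ p hp hp2 g s hg hs
  haveI : Fact p.Prime := ⟨hp⟩
  have hpd : p ∣ Nat.card G := hg ▸ orderOf_dvd_natCard g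
  have hfac : (Nat.card G).factorization p = 1 := by
    have hne : Nat.card G ≠ 0 := Nat.card_pos.ne'
    have h1 : 1 ≤ (Nat.card G).factorization p :=
      (hp.dvd_iff_one_le_factorization hne).mp hpd
    have h2 : ¬ 2 ≤ (Nat.card G).factorization p := by
      intro h
      exact hp2 ((hp.pow_dvd_iff_le_factorization hne).mpr h)
    omega
  have hcg : Nat.card (Subgroup.zpowers g) = p ^ (Nat.card G).factorization p := by
    rw [hfac, pow_one, Nat.card_zpowers, hg]
  have hcs : Nat.card (Subgroup.zpowers s) = p ^ (Nat.card G).factorization p := by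
    rw [hfac, pow_one, Nat.card_zpowers, hs]
  obtain ⟨c, hc⟩ := MulAction.exists_smul_eq G (Sylow.ofCard (Subgroup.zpowers g) hcg)
    (Sylow.ofCard (Subgroup.zpowers s) hcs)
  have hsQ : s ∈ ((Sylow.ofCard (Subgroup.zpowers s) hcs : Sylow p G) : Subgroup G) := by
    show s ∈ Subgroup.zpowers s
    exact Subgroup.mem_zpowers s
  rw [← hc, Sylow.coe_subgroup_smul, Subgroup.mem_pointwise_smul_iff_inv_smul_mem] at hsQ
  have hmem : c⁻¹ * s * c ∈ Subgroup.zpowers g := by
    have h1 : (MulAut.conj c)⁻¹ • s = c⁻¹ * s * c := by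
      simp [MulAut.smul_def]
    rw [h1] at hsQ
    exact hsQ
  obtain ⟨i, hi⟩ := (Submonoid.mem_powers_iff _ _).mp (mem_powers_iff_mem_zpowers.mpr hmem)
  refine ⟨c, i, ?_⟩
  rw [hi]
  group

example : Cfsg.Agent.H98.Ps.StSyl := syl

end Cfsg.Agent.H81.Ps
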