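import Mathlib
import Cfsg.Agent.H17.TgDefs
import Cfsg.Agent.H65.TgCrit

/-!
# S1904 piece TG-RANK (helper81, parallel take): the rank hypothesis follows from the absence
of a normal self-centralizing abelian subgroup containing an elementary abelian subgroup of order 8
-/

set_option autoImplicit false
set_option linter.style.haveILetI false
set_option linter.unusedVariables false

universe u

namespace Cfsg.Agent.H81.Tg

open Cfsg Cfsg.Agent.H17.Tg

/-- a maximal normal abelian subgroup of a 2-group is self-centralizing (from CRIT) -/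
theorem rank_selfcent (hCrit : StCrit.{u}) (X : Type u) [Group X] [Finite X] (hX : IsPGroup 2 X)
    (M : Subgroup X) (hMn : M.Normal) (hMab : ∀ a ∈ M, ∀ b ∈ M, a * b = b * a)
    (hmax : ∀ M' : Subgroup X, M'.Normal → (∀ a ∈ M', ∀ b ∈ M', a * b = b * a) → M ≤ M' →
      M' = M) :
    Subgroup.centralizer (M : Set X) = M := by
  classical
  by_contra hne
  have hle : M ≤ Subgroup.centralizer (M : Set X) := by
    intro a ha
    rw [Subgroup.mem_centralizer_iff]
    intro b hb
    exact hMab b hb a ha
  haveI : M.Normal := hMn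
  have hCn : (Subgroup.centralizer (M : Set X)).Normal := Subgroup.normal_centralizer
  obtain ⟨k, hkC, hkM, hk2, hkcomm⟩ :=
    hCrit X hX M (Subgroup.centralizer (M : Set X)) hMn hCn hle (Ne.symm hne)
  have hkc : ∀ m ∈ M, m * k = k * m := by
    intro m hm
    exact (Subgroup.mem_centralizer_iff.mp hkC) m hm
  set M' : Subgroup X := M ⊔ Subgroup.zpowers k with hM'
  have hMM' : M ≤ M' := le_sup_left
  have hkM' : k ∈ M' := (le_sup_right : Subgroup.zpowers k ≤ M') (Subgroup.mem_zpowers k)
  -- normal
  have hn : M'.Normal := by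
    refine ⟨fun n hn g => ?_⟩
    have hmap : M'.map (MulAut.conj g).toMonoidHom ≤ M' := by
      rw [hM', Subgroup.map_sup]
      refine sup_le ?_ ?_
      · rintro _ ⟨m, hm, rfl⟩
        exact hMM' (by simpa using hMn.conj_mem m hm g)
      · rw [MonoidHom.map_zpowers]
        rw [Subgroup.zpowers_le]
        have h1 : g * k * g⁻¹ * k⁻¹ ∈ M := by
          have := M.inv_mem (hkcomm g)
          simpa [mul_assoc] using this
        have h2 : g * k * g⁻¹ = (g * k * g⁻¹ * k⁻¹) * k := by group
        show (MulAut.conj g) k ∈ M'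
        rw [MulAut.conj_apply, h2]
        exact M'.mul_mem (hMM' h1) hkM'
    have : (MulAut.conj g).toMonoidHom n ∈ M'.map (MulAut.conj g).toMonoidHom :=
      Subgroup.mem_map_of_mem _ hn
    simpa using hmap this
  -- abelian
  have hcM : M' ≤ Subgroup.centralizer (M : Set X) := sup_le hle (by
    rw [Subgroup.zpowers_le]; exact hkC)
  have hck : M' ≤ Subgroup.centralizer ({k} : Set X) := by
    refine sup_le ?_ ?_
    · intro m hm
      rw [Subgroup.mem_centralizer_iff]
      intro x hx
      rw [Set.mem_singleton_iff] at hx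
      subst hx
      exact (hkc m hm).symm
    · rw [Subgroup.zpowers_le, Subgroup.mem_centralizer_iff]
      intro x hx
      rw [Set.mem_singleton_iff] at hx
      subst hx
      rfl
  have hab : ∀ a ∈ M', ∀ b ∈ M', a * b = b * a := by
    intro a ha b hb
    have h1 : M' ≤ Subgroup.centralizer ({a} : Set X) := by
      refine sup_le ?_ ?_
      · intro m hm
        rw [Subgroup.mem_centralizer_iff]
        intro x hx
        rw [Set.mem_singleton_iff] at hx
        subst hx
        exact (Subgroup.mem_centralizer_iff.mp (hcM ha)) m hm |>.symm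
      · rw [Subgroup.zpowers_le, Subgroup.mem_centralizer_iff]
        intro x hx
        rw [Set.mem_singleton_iff] at hx
        subst hx
        exact (Subgroup.mem_centralizer_iff.mp (hck ha)) k (Set.mem_singleton k) |>.symm
    exact (Subgroup.mem_centralizer_iff.mp (h1 hb)) a (Set.mem_singleton a)
  have := hmax M' hn hab hMM'
  exact hkM (this ▸ hkM')

/-- TG-RANK from TG-CRIT -/
theorem rank_of_crit (hCrit : StCrit.{u}) : StRank.{u} := by
  intro X _ _ hX hno N hNn hNab E hEN hE2
  classical
  by_contra hcard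
  obtain ⟨M, hNM, hM⟩ := (Set.toFinite {M : Subgroup X | M.Normal ∧
      (∀ a ∈ M, ∀ b ∈ M, a * b = b * a)}).exists_le_maximal
    (show N ∈ {M : Subgroup X | M.Normal ∧ (∀ a ∈ M, ∀ b ∈ M, a * b = b * a)} from ⟨hNn, hNab⟩)
  have hMn : M.Normal := hM.prop.1
  have hMab : ∀ a ∈ M, ∀ b ∈ M, a * b = b * a := hM.prop.2
  have hself : Subgroup.centralizer (M : Set X) = M :=
    rank_selfcent hCrit X hX M hMn hMab (by
      intro M' hn hab hle
      exact le_antisymm (hM.le_of_ge ⟨hn, hab⟩ hle) hle)
  have hEp : IsPGroup 2 E := hX.to_subgroup E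
  obtain ⟨n, hn⟩ := IsPGroup.iff_card.mp hEp
  have h3 : 3 ≤ n := by
    by_contra h
    have h4 : Nat.card E ≤ 4 := by
      rw [hn]
      calc 2 ^ n ≤ 2 ^ 2 := Nat.pow_le_pow_right (by norm_num) (by omega)
        _ = 4 := by norm_num
    omega
  haveI : Fact (Nat.Prime 2) := ⟨Nat.prime_two⟩
  obtain ⟨K, hK⟩ := Sylow.exists_subgroup_card_pow_prime (G := E) 2 (n := 3)
    (by rw [hn]; exact pow_dvd_pow 2 h3)
  have hE'le : K.map E.subtype ≤ E := Subgroup.map_subtype_le K
  have hE'card : Nat.card (K.map E.subtype) = 8 := by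
    rw [Subgroup.card_map_of_injective E.subtype_injective, hK]; norm_num
  refine hno ⟨M, hMn, hself, K.map E.subtype, hE'le.trans (hEN.trans hNM), ⟨⟨⟨?_⟩⟩, ?_⟩, hE'card⟩
  · rintro ⟨a, ha⟩ ⟨b, hb⟩
    exact Subtype.ext (hMab a (hNM (hEN (hE'le ha))) b (hNM (hEN (hE'le hb))))
  · intro a ha
    exact hE2 a (hE'le ha)

/-- TG-RANK -/
theorem rank : StRank.{u} := rank_of_crit Cfsg.Agent.H65.Tg.crit

example : Cfsg.Agent.H17.Tg.StRank.{u} := rank

end Cfsg.Agent.H81.Tg
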